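import Groth.Agent.CycCovRam.Ram
import Groth.Agent.CycCovEt.Main
import Groth.Agent.IdealSh.Comap
import Groth.Agent.LiftLib.NCDChart
import Groth.Agent.EtRamLib.Kummer.ChartConn

/-! # Ramification of cyclic covers -/

set_option autoImplicit false
set_option linter.style.haveILetI false
set_option backward.isDefEq.respectTransparency false

universe u

open CategoryTheory AlgebraicGeometry Opposite TopologicalSpace

noncomputable section

namespace Groth.Agent.CycCovRam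

open Groth.Agent.QCoh Groth.Agent.Props.GenLocus Groth.Agent.Props.GenTensor Groth.Agent.CycPic Groth.Agent.CycCovEt

variable {X Y : Scheme.{u}}

/-- Root-closedness of divisibility on a normal affine open. -/
theorem dvd_of_pow_dvd {U : Y.Opens} (hU : IsAffineOpen U) (hn : Pi1.IsNormalScheme Y) (b y : Γ(Y, U)) (n : ℕ)
    (h0 : 0 < n) (h : b ^ n ∣ y ^ n) : b ∣ y := by
  rw [← Ideal.mem_span_singleton]
  refine hU.mem_ideal_iff.2 fun x hx => ?_
  haveI := (hn x).1
  haveI := (hn x).2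
  rw [Ideal.map_span, Set.image_singleton, Ideal.mem_span_singleton]
  refine (IsIntegrallyClosed.pow_dvd_pow_iff h0.ne').1 ?_
  rw [← map_pow, ← map_pow]
  exact map_dvd _ h

lemma prod_ideal {ι : Type*} (S : Finset ι) (I : ι → X.IdealSheafData) (U : X.affineOpens) :
    (∏ j ∈ S, I j).ideal U = ∏ j ∈ S, (I j).ideal U := by
  classical
  induction S using Finset.induction_on with
  | empty => simp [Ideal.one_eq_top]
  | insert a S ha ih => rw [Finset.prod_insert ha, Finset.prod_insert ha, ← ih]; rfl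

/-- Equality of ideal sheaves on an open, checked on a cover. -/
theorem ideal_eq_of_cover (I J : Y.IdealSheafData) (V : Y.affineOpens)
    (h : ∀ y ∈ V.1, ∃ U : Y.affineOpens, y ∈ U.1 ∧ I.ideal U = J.ideal U) : I.ideal V = J.ideal V := by
  refine V.2.ideal_ext_iff.2 fun y hy => ?_
  obtain ⟨U, hyU, hU⟩ := h y hy
  obtain ⟨_, ⟨O, hO, rfl⟩, hyO, hOle⟩ :=
    Y.isBasis_affineOpens.exists_subset_of_mem_open (show y ∈ V.1 ⊓ U.1 from ⟨hy, hyU⟩) (V.1 ⊓ U.1).2
  replace hOle : O ≤ V.1 ⊓ U.1 := hOle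
  have e1 := I.map_ideal (U := ⟨O, hO⟩) (V := V) (hOle.trans inf_le_left)
  have e2 := J.map_ideal (U := ⟨O, hO⟩) (V := V) (hOle.trans inf_le_left)
  have e3 := (I.map_ideal (U := ⟨O, hO⟩) (V := U) (hOle.trans inf_le_right)).symm.trans
    ((congrArg _ hU).trans (J.map_ideal (U := ⟨O, hO⟩) (V := U) (hOle.trans inf_le_right)))
  rw [← Y.presheaf.germ_res (homOfLE (hOle.trans inf_le_left)) y hyO, CommRingCat.hom_comp, ← Ideal.map_map,
    ← Ideal.map_map]
  exact congrArg _ (e1.trans (e3.trans e2.symm))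

variable [IsIntegral X] {L : X.Modules} {N : ℕ} {s : Coh.structureModule X ⟶ CohB1.tensorPow L N} {π : Y ⟶ X}

theorem chart_props (hN : 0 < N) {R : CycCov.Root L N s π} (hR : CycCov.IsCover R)
    (U : X.affineOpens) [Nonempty U.1] (e : Γ(L, U.1)) (he : Props.GenLocus.IsGen L U.1 e) (f : Γ(X, U.1))
    (hf : SecTwist.val s U.1 = f • CycCov.lpow L U.1 e N) :
    ∃ ψ : Kum Γ(X, U.1) N f →+* Γ(Y, π ⁻¹ᵁ U.1), Function.Injective ψ ∧
      (∀ r, ψ (AdjoinRoot.of _ r) = (π.app U.1).hom r) ∧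
      (∀ (b : Γ(X, U.1)) (c : Γ(Y, π ⁻¹ᵁ U.1)), b ≠ 0 → ψ (AdjoinRoot.of _ b) * c = 0 → c = 0) ∧
      (∀ c, ∃ (b : Γ(X, U.1)) (p : Kum Γ(X, U.1) N f), b ≠ 0 ∧ ψ (AdjoinRoot.of _ b) * c = ψ p) := by
  obtain ⟨hfin, hnY, W₀, hdX, hdY, hW₀⟩ := hR
  haveI := hfin
  haveI : ∀ y : Y, _root_.IsReduced (Y.presheaf.stalk y) := fun y => by
    haveI := (hnY y).1
    infer_instance
  haveI : AlgebraicGeometry.IsReduced Y := isReduced_of_isReduced_stalk Y
  let ψ : Kum Γ(X, U.1) N f →+* Γ(Y, π ⁻¹ᵁ U.1) := CycCov.chart R U e (isGen_prelude he) f hf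
  have hψof : ∀ r, ψ (AdjoinRoot.of _ r) = (π.app U.1).hom r := fun r => AdjoinRoot.lift_of _
  -- non-zero functions on `U` are non-zero-divisors upstairs
  have htf : ∀ (b : Γ(X, U.1)) (c : Γ(Y, π ⁻¹ᵁ U.1)), b ≠ 0 → ψ (AdjoinRoot.of _ b) * c = 0 → c = 0 := by
    intro b c hb hbc
    rw [hψof] at hbc
    rw [← basicOpen_eq_bot_iff]
    by_contra hne
    obtain ⟨y, hyW, hyc⟩ := hdY.exists_mem_open (Y.basicOpen c).2
      ((Opens.coe_eq_empty.not.2 hne) |> Set.nonempty_iff_ne_empty.2)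
    obtain ⟨g, hgW, hyg⟩ := U.2.exists_basicOpen_le (V := W₀) ⟨π y, hyW⟩ (Y.basicOpen_le c hyc)
    haveI : Nonempty (X.basicOpen g) := ⟨⟨π y, hyg⟩⟩
    let V : X.affineOpens := ⟨X.basicOpen g, U.2.basicOpen g⟩
    obtain ⟨ψ', hψ', hψ'of, -⟩ := exists_chart_res R hW₀ U e he f hf V (X.basicOpen_le g) hgW
    obtain ⟨p, hp⟩ := hψ'.2 ((Y.presheaf.map (homOfLE (π.preimage_mono (X.basicOpen_le g))).op).hom c)
    have h1 : ψ' (AdjoinRoot.of _ ((X.presheaf.map (homOfLE (X.basicOpen_le g)).op).hom b) * p) = ψ' 0 := by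
      rw [map_mul, map_zero, hψ'of, hp,
        show (π.app V.1).hom ((X.presheaf.map (homOfLE (X.basicOpen_le g)).op).hom b) =
          (Y.presheaf.map (homOfLE (π.preimage_mono (X.basicOpen_le g))).op).hom ((π.app U.1).hom b) from
          congrArg (fun φ => φ.hom b) (π.naturality (homOfLE (X.basicOpen_le g)).op),
        ← map_mul, hbc, map_zero]
    have h2 := hψ'.1 h1
    have h3 : p = 0 := Kum.ext hN fun k => by
      have h4 : Kum.cf hN _ k = Kum.cf hN (0 : Kum Γ(X, V.1) N ((X.presheaf.map (homOfLE (X.basicOpen_le g)).op).hom f)) k :=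
        congrArg (fun q => Kum.cf hN q k) h2
      erw [Kum.cf_of_mul] at h4
      have h5 : Kum.cf hN (0 : Kum Γ(X, V.1) N ((X.presheaf.map (homOfLE (X.basicOpen_le g)).op).hom f)) k = 0 := by
        simp [Kum.cf]
      rw [h5] at h4 ⊢
      refine (mul_eq_zero.1 h4).resolve_left fun h6 => hb (res_injective (X.basicOpen_le g) (h6.trans (map_zero _).symm))
    rw [h3, map_zero] at hp
    have h7 : y ∈ Y.basicOpen ((Y.presheaf.map (homOfLE (π.preimage_mono (X.basicOpen_le g))).op).hom c) := by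
      rw [Scheme.basicOpen_res]
      exact ⟨hyg, hyc⟩
    rw [← hp, Scheme.basicOpen_zero] at h7
    exact h7
  -- a chart of the simple cover inside `U`
  obtain ⟨x, hxW, hxU⟩ := hdX.exists_mem_open U.1.2 (Set.nonempty_coe_sort.1 ‹Nonempty U.1›)
  obtain ⟨g, hgW, hxg⟩ := U.2.exists_basicOpen_le (V := W₀) ⟨x, hxW⟩ hxU
  haveI : Nonempty (X.basicOpen g) := ⟨⟨x, hxg⟩⟩
  have hg0 : g ≠ 0 := by
    rintro rfl
    rw [Scheme.basicOpen_zero] at hxg
    exact hxg
  let V : X.affineOpens := ⟨X.basicOpen g, U.2.basicOpen g⟩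
  have hle : V.1 ≤ U.1 := X.basicOpen_le g
  obtain ⟨ψ', hψ', -, hcomm⟩ := exists_chart_res R hW₀ U e he f hf V hle hgW
  have hψinj : Function.Injective ψ := by
    refine (injective_iff_map_eq_zero _).2 fun p hp => ?_
    have h1 : mapK (X.presheaf.map (homOfLE hle).op).hom N f p = 0 := by
      refine hψ'.1 ?_
      rw [← hcomm, map_zero]
      exact (congrArg _ hp).trans (map_zero _)
    rw [← Kum.mk_cf hN p, mapK_mk] at h1
    refine Kum.ext hN fun k => ?_
    have h2 := congrArg (fun q => Kum.cf hN q k) h1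
    simp only [Kum.cf_mk] at h2
    have h5 : Kum.cf hN (0 : Kum Γ(X, U.1) N f) k = 0 := by simp [Kum.cf]
    rw [h5]
    refine res_injective hle (h2.trans ?_)
    rw [map_zero]
    simp [Kum.cf]
  have hfrac : ∀ c, ∃ (b : Γ(X, U.1)) (p : Kum Γ(X, U.1) N f),
      b ≠ 0 ∧ ψ (AdjoinRoot.of _ b) * c = ψ p := by
    intro c
    obtain ⟨p', hp'⟩ := hψ'.2 ((Y.presheaf.map (homOfLE (π.preimage_mono hle)).op).hom c)
    haveI := U.2.isLocalization_basicOpen g
    obtain ⟨⟨b, m, rfl⟩, hb⟩ := IsLocalization.exist_integer_multiples_of_finite (Submonoid.powers g)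
      (S := Γ(X, X.basicOpen g)) (fun k => Kum.cf hN p' k)
    choose a ha using hb
    have h1 : (Y.presheaf.map (homOfLE (π.preimage_mono hle)).op).hom
        ((π.app U.1).hom (g ^ m) * c - ψ (Kum.mk f a)) = 0 := by
      rw [map_sub, map_mul, ← hψof, hcomm, hcomm, ← hp', ← map_mul, ← map_sub, mapK_mk]
      refine Eq.trans (congrArg ψ' ?_) (map_zero ψ')
      rw [sub_eq_zero, mapK, Kum.lift_of, RingHom.comp_apply]
      conv_lhs => rw [← Kum.mk_cf hN p']
      rw [Kum.of_mul_mk]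
      congr 1
      funext k
      exact (Algebra.smul_def _ _).symm.trans (ha k).symm
    haveI : IsLocalization.Away ((π.app U.1).hom g) Γ(Y, Y.basicOpen ((π.app U.1).hom g)) :=
      (U.2.preimage π).isLocalization_basicOpen _
    have h2 : (algebraMap Γ(Y, π ⁻¹ᵁ U.1) Γ(Y, Y.basicOpen ((π.app U.1).hom g)))
        ((π.app U.1).hom (g ^ m) * c - ψ (Kum.mk f a)) = 0 := by
      have e1 : Y.basicOpen ((π.app U.1).hom g) ≤ π ⁻¹ᵁ X.basicOpen g := (π.preimage_basicOpen g).ge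
      have h3 := congrArg (Y.presheaf.map (homOfLE e1).op).hom h1
      rw [map_zero, ← ConcreteCategory.comp_apply, ← Functor.map_comp] at h3
      exact h3
    rw [IsLocalization.map_eq_zero_iff (Submonoid.powers ((π.app U.1).hom g))] at h2
    obtain ⟨⟨_, n, rfl⟩, hn⟩ := h2
    refine ⟨g ^ m, Kum.mk f a, pow_ne_zero _ hg0, ?_⟩
    rw [hψof, ← sub_eq_zero]
    refine htf (g ^ n) _ (pow_ne_zero _ hg0) ?_
    rw [hψof, map_pow]
    exact hn
  exact ⟨ψ, hψinj, hψof, htf, hfrac⟩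

/-- The ramification of the branch divisors, locally on the base. -/
theorem exists_local_ram {k : Type u} [Field k] (f : X ⟶ Spec (CommRingCat.of k)) [Smooth f]
    (hL : PicF.IsInvertible L) (hN : 0 < N) (hNk : (N : k) ≠ 0) {ζ : k} (hζ : IsPrimitiveRoot ζ N)
    (hnX : Pi1.IsNormalScheme X) {r : ℕ} (D : Fin r → X.IdealSheafData) (α : Fin r → ℕ) (hD : LogNCD.IsNCD D f)
    (hs : CycCov.IsZeroDiv (CohB1.tensorPow L N) s (CycCov.divIdeal D α))
    {R : CycCov.Root L N s π} (hR : CycCov.IsCover R) (x : X)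
    (hx : ∀ j j' : Fin r, x ∈ (D j).support → x ∈ (D j').support → j = j') :
    ∃ U : X.affineOpens, x ∈ U.1 ∧ ∀ j, ((D j).ideal U).map (π.app U.1).hom =
      (((D j).ideal U).map (π.app U.1).hom).radical ^ (N / Nat.gcd N (α j)) := by
  obtain ⟨U₁, e₁, hxU₁, he₁⟩ := exists_isGen hL x
  obtain ⟨U, hle, n, φ, emb, hxU, hUU₁, hφC, hφet, -, hthr, hoff⟩ :=
    LiftLib.NCDChart.exists_chart f D hD x U₁ hxU₁ ⟨⊤, isAffineOpen_top _⟩ trivial
  refine ⟨U, hxU, fun j => ?_⟩
  have htop : x ∉ (D j).support → ((D j).ideal U).map (π.app U.1).hom =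
      (((D j).ideal U).map (π.app U.1).hom).radical ^ (N / Nat.gcd N (α j)) := fun h => by
    rw [hoff j h, Ideal.map_top, Ideal.radical_top, Ideal.top_pow]
  by_cases hj : x ∈ (D j).support
  swap
  · exact htop hj
  let t : Γ(X, U.1) := φ (MvPolynomial.X (emb ⟨j, hj⟩))
  have hDj : (D j).ideal U = Ideal.span {t} := hthr ⟨j, hj⟩
  haveI : Nonempty U.1 := ⟨⟨x, hxU⟩⟩
  haveI : IsIntegrallyClosed Γ(X, U.1) := isIntegrallyClosed_of_normal hnX U.1
  let κ : k →+* Γ(X, U.1) := ((Scheme.ΓSpecIso (CommRingCat.of k)).inv ≫ f.appLE ⊤ U.1 le_top).hom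
  -- the coordinate is non-zero with radical ideal
  haveI : IsReduced Γ(Spec (CommRingCat.of k), ⊤) :=
    isReduced_of_injective (Scheme.ΓSpecIso (CommRingCat.of k)).commRingCatIsoToRingEquiv.toRingHom
      (RingEquiv.injective _)
  haveI : IsDomain Γ(Spec (CommRingCat.of k), ⊤) :=
    ((Scheme.ΓSpecIso (CommRingCat.of k)).commRingCatIsoToRingEquiv).toMulEquiv.isDomain_iff.2 inferInstance
  letI := φ.toAlgebra
  haveI : Algebra.Etale (MvPolynomial (Fin n) Γ(Spec (CommRingCat.of k), ⊤)) Γ(X, U.1) :=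
    RingHom.etale_algebraMap.1 hφet
  have hP : (Ideal.span {(MvPolynomial.X (emb ⟨j, hj⟩) : MvPolynomial (Fin n) Γ(Spec (CommRingCat.of k), ⊤))}).IsPrime :=
    (Ideal.span_singleton_prime (MvPolynomial.X_ne_zero _)).2 MvPolynomial.X_prime
  have ht : (Ideal.span {t}).IsRadical := by
    haveI : IsReduced (MvPolynomial (Fin n) Γ(Spec (CommRingCat.of k), ⊤) ⧸
        Ideal.span {(MvPolynomial.X (emb ⟨j, hj⟩) : MvPolynomial (Fin n) Γ(Spec (CommRingCat.of k), ⊤))}) :=
      (Ideal.isRadical_iff_quotient_reduced _).1 hP.isRadical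
    have h1 := EtRamLib.Kummer.Basis.isReduced_quotient_map (R := Γ(X, U.1))
      (Ideal.span {(MvPolynomial.X (emb ⟨j, hj⟩) : MvPolynomial (Fin n) Γ(Spec (CommRingCat.of k), ⊤))})
    rw [Ideal.map_span, Set.image_singleton] at h1
    exact (Ideal.isRadical_iff_quotient_reduced _).2 h1
  have ht0 : t ≠ 0 := fun h0 => by
    have h1 := EtRamLib.Kummer.Basis.mem_map_of_mul_mem (R := Γ(X, U.1))
      (⊥ : Ideal (MvPolynomial (Fin n) Γ(Spec (CommRingCat.of k), ⊤))) (MvPolynomial.X (emb ⟨j, hj⟩))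
      (fun z hz => by simpa [MvPolynomial.X_ne_zero] using hz) 1
      (by rw [mul_one, Ideal.map_bot, Ideal.mem_bot]; exact h0)
    rw [Ideal.map_bot, Ideal.mem_bot] at h1
    exact one_ne_zero h1
  -- the section in a frame
  have hI : (CycCov.divIdeal D α).ideal U = Ideal.span {t ^ α j} := by
    rw [CycCov.divIdeal, prod_ideal, Finset.prod_eq_single j]
    · rw [Scheme.IdealSheafData.ideal_pow, Pi.pow_apply, hDj, Ideal.span_singleton_pow]
    · intro i _ hi
      rw [Scheme.IdealSheafData.ideal_pow, Pi.pow_apply, hoff i (fun h => hi (hx i j h hj)), Ideal.top_pow,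
        Ideal.one_eq_top]
    · simp
  let e : Γ(L, U.1) := res L hUU₁ e₁
  have he : Props.GenLocus.IsGen L U.1 e := he₁.restrict hUU₁
  have hg : CycCov.IsGen _ U.1 (pw L e N) := isGen_prelude (isGen_pw he N)
  obtain ⟨c, hc⟩ := hg.2 (SecTwist.val s U.1)
  replace hc : SecTwist.val s U.1 = c • pw L e N := hc.symm
  have hz := hs U
  rw [hI, hc] at hz
  have hc1 : t ^ α j ∣ c := by
    have h1 : (c • pw L e N : (CohB1.tensorPow L N).val.obj (op U.1)) ∈ Submodule.span Γ(X, U.1) {c • pw L e N} :=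
      Submodule.mem_span_singleton_self _
    rw [hz] at h1
    refine Submodule.smul_induction_on (p := fun m => ∀ d : Γ(X, U.1), m = d • pw L e N → t ^ α j ∣ d) h1 ?_ ?_ c rfl
    · intro a ha m _ d hd
      obtain ⟨d', hd'⟩ := hg.2 m
      rw [← hd', smul_smul] at hd
      rw [← hg.1 hd]
      exact (Ideal.mem_span_singleton.1 ha).mul_right _
    · intro m₁ m₂ h₁ h₂ d hd
      obtain ⟨d₁, hd₁⟩ := hg.2 m₁
      obtain ⟨d₂, hd₂⟩ := hg.2 m₂
      rw [← hd₁, ← hd₂, ← add_smul] at hd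
      rw [← hg.1 hd]
      exact dvd_add (h₁ d₁ hd₁.symm) (h₂ d₂ hd₂.symm)
  obtain ⟨v, rfl⟩ := hc1
  have hv : IsUnit v := by
    have h1 : (t ^ α j • pw L e N : (CohB1.tensorPow L N).val.obj (op U.1)) ∈
        Submodule.span Γ(X, U.1) {(t ^ α j * v) • pw L e N} := by
      rw [hz]; exact Submodule.smul_mem_smul (Ideal.mem_span_singleton_self _) trivial
    obtain ⟨a, ha⟩ := Submodule.mem_span_singleton.1 h1
    rw [smul_smul] at ha
    have h2 := hg.1 ha
    refine IsUnit.of_mul_eq_one_right a (mul_left_cancel₀ (pow_ne_zero (α j) ht0) ?_)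
    rw [mul_one, mul_left_comm]; exact h2
  rw [mul_comm] at hc
  obtain ⟨ψ, hinj, hof, htf, hfrac⟩ := chart_props hN hR U e he (v * t ^ α j) (by rw [lpow_eq_pw]; exact hc)
  haveI := hR.1
  have key := span_eq_radical_pow hN
    (show IsUnit (N : Γ(X, U.1)) by simpa using (isUnit_iff_ne_zero.2 hNk).map κ) hv ht0 ht
    (hζ.map_of_injective κ.injective) ψ hinj
    (fun c => by
      rw [show ψ.comp (AdjoinRoot.of _) = (π.app U.1).hom from RingHom.ext hof]
      exact (π.finite_app U.1 U.2).to_isIntegral c)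
    htf hfrac (fun b y n => dvd_of_pow_dvd (U.2.preimage π) hR.2.1 b y n)
  rw [hDj, Ideal.map_span, Set.image_singleton]
  rwa [hof] at key

theorem comap_eq_radical_pow {k : Type u} [Field k] (f : X ⟶ Spec (CommRingCat.of k)) [Smooth f]
    (hL : PicF.IsInvertible L) (hN : 0 < N) (hNk : (N : k) ≠ 0) {ζ : k} (hζ : IsPrimitiveRoot ζ N)
    (hnX : Pi1.IsNormalScheme X) {r : ℕ} (D : Fin r → X.IdealSheafData) (α : Fin r → ℕ) (hD : LogNCD.IsNCD D f)
    (hs : CycCov.IsZeroDiv (CohB1.tensorPow L N) s (CycCov.divIdeal D α))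
    {R : CycCov.Root L N s π} (hR : CycCov.IsCover R) (W : X.Opens)
    (hW : ∀ x ∈ W, ∀ j j' : Fin r, x ∈ (D j).support → x ∈ (D j').support → j = j')
    (V : Y.affineOpens) (hV : V.1 ≤ π ⁻¹ᵁ W) :
    (∀ j, ((D j).comap π).ideal V = (((D j).comap π).radical ^ (N / Nat.gcd N (α j))).ideal V) ∧
    ((CycCov.divIdeal D α).comap π).ideal V =
      (∏ j : Fin r, ((D j).comap π).radical ^ (N * α j / Nat.gcd N (α j))).ideal V := by
  haveI := hR.1
  refine ⟨fun j => ideal_eq_of_cover _ _ V fun y hy => ?_, ideal_eq_of_cover _ _ V fun y hy => ?_⟩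
  all_goals
    obtain ⟨U, hxU, hU⟩ := exists_local_ram f hL hN hNk hζ hnX D α hD hs hR (π y) (hW _ (hV hy))
    refine ⟨⟨π ⁻¹ᵁ U.1, U.2.preimage π⟩, hxU, ?_⟩
  · rw [Scheme.IdealSheafData.ideal_pow, Pi.pow_apply,
      show ∀ I : Y.IdealSheafData, ∀ O, I.radical.ideal O = (I.ideal O).radical from fun _ _ => rfl,
      IdealSh.Comap.ideal_comap_app]
    exact hU j
  · rw [IdealSh.Comap.ideal_comap_app, CycCov.divIdeal, prod_ideal, prod_ideal,
      ← Ideal.mapHom_apply, map_prod]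
    refine Finset.prod_congr rfl fun j _ => ?_
    rw [Ideal.mapHom_apply, Scheme.IdealSheafData.ideal_pow, Pi.pow_apply, Ideal.map_pow,
      Scheme.IdealSheafData.ideal_pow, Pi.pow_apply,
      show ∀ I : Y.IdealSheafData, ∀ O, I.radical.ideal O = (I.ideal O).radical from fun _ _ => rfl,
      IdealSh.Comap.ideal_comap_app]
    conv_lhs => rw [hU j]
    rw [← pow_mul, Nat.div_mul_right_comm (Nat.gcd_dvd_left N (α j))]

end Groth.Agent.CycCovRam
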