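import Groth.Agent.CycPic.Kum
import Mathlib.RingTheory.RootsOfUnity.PrimitiveRoots
import Mathlib.RingTheory.IntegralClosure.IntegrallyClosed
import Mathlib.RingTheory.Localization.FractionRing
import Mathlib.Algebra.Ring.GeomSum

/-! # Extracting coordinates in Kummer algebras by roots of unity -/

set_option autoImplicit false

universe u

open Polynomial

noncomputable section

namespace Groth.Agent.CycCovRam

open Groth.Agent.CycPic

variable {R : Type u} [CommRing R] [IsDomain R] {N : ℕ} {a z : R}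

lemma conj_pow (hz : IsPrimitiveRoot z N) (j : ℕ) :
    (AdjoinRoot.of (X ^ N - C a) (z ^ j) * AdjoinRoot.root _) ^ N =
      (AdjoinRoot.of (X ^ N - C a)).comp (RingHom.id R) a := by
  rw [mul_pow, Kum.root_pow, ← map_pow, ← pow_mul, mul_comm j N, pow_mul, hz.pow_eq_one, one_pow, map_one, one_mul]
  rfl

/-- The substitution `T ↦ z^j T`. -/
def conj (hz : IsPrimitiveRoot z N) (j : ℕ) : Kum R N a →+* Kum R N a :=
  Kum.lift ((AdjoinRoot.of _).comp (RingHom.id R)) _ (conj_pow hz j)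

lemma conj_of (hz : IsPrimitiveRoot z N) (j : ℕ) (r : R) : conj (a := a) hz j (AdjoinRoot.of _ r) = AdjoinRoot.of _ r :=
  Kum.lift_of _ _ _ _

lemma sum_conj (hz : IsPrimitiveRoot z N) (c : Fin N → R) (i : Fin N) :
    ∑ j ∈ Finset.range N, AdjoinRoot.of (X ^ N - C a) (z ^ (j * (N - i.1))) * conj hz j (Kum.mk a c) =
      AdjoinRoot.of _ ((N : R) * c i) * AdjoinRoot.root _ ^ (i : ℕ) := by
  have e1 : ∀ j, conj hz j (Kum.mk a c) = Kum.mk a (fun k => c k * (z ^ j) ^ (k : ℕ)) := fun j =>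
    (Kum.lift_mk (RingHom.id R) (z ^ j) (conj_pow hz j) c).trans (by rfl)
  simp only [e1]
  simp only [Kum.mk, Finset.mul_sum, ← mul_assoc, ← map_mul]
  rw [Finset.sum_comm, Finset.sum_eq_single i]
  · rw [← Finset.sum_mul, ← map_sum]
    congr 2
    rw [show (N : R) * c i = ∑ j ∈ Finset.range N, c i by rw [Finset.sum_const, Finset.card_range, nsmul_eq_mul]]
    refine Finset.sum_congr rfl fun j _ => ?_
    have h1 : z ^ (j * (N - i.1)) * (z ^ j) ^ (i : ℕ) = 1 := by
      rw [← pow_mul, ← pow_add, ← Nat.left_distrib, Nat.sub_add_cancel i.2.le, mul_comm j N, pow_mul,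
        hz.pow_eq_one, one_pow]
    rw [mul_right_comm, h1, one_mul]
  · intro k _ hk
    rw [← Finset.sum_mul, ← map_sum]
    have h1 : ∑ j ∈ Finset.range N, z ^ (j * (N - i.1)) * c k * (z ^ j) ^ (k : ℕ) =
        c k * ∑ j ∈ Finset.range N, (z ^ (N - i.1 + k)) ^ j := by
      rw [Finset.mul_sum]
      exact Finset.sum_congr rfl fun j _ => by ring
    have h2 : z ^ (N - i.1 + k) ≠ 1 := fun h => hk (Fin.ext (by
      obtain ⟨q, hq⟩ := hz.dvd_of_pow_eq_one _ h
      have := i.2; have := k.2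
      rcases q with _ | _ | q
      · simp at hq; omega
      · simp at hq; omega
      · exfalso; have : N * 2 ≤ N * (q + 1 + 1) := Nat.mul_le_mul_left N (by omega)
        omega))
    have h4 : ∑ j ∈ Finset.range N, (z ^ (N - i.1 + k)) ^ j = 0 := by
      refine eq_zero_of_ne_zero_of_mul_right_eq_zero (sub_ne_zero.2 h2) ?_
      rw [geom_sum_mul, ← pow_mul, mul_comm, pow_mul, hz.pow_eq_one, one_pow, sub_self]
    rw [h1, h4, mul_zero, map_zero, zero_mul]
  · intro h; exact absurd (Finset.mem_univ i) h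

/-- Coordinates of integral elements. -/
theorem coeff_mem_range {B : Type u} [CommRing B] [IsDomain B] [IsIntegrallyClosed B] {u t ζ : B} {α : ℕ}
    (hN : 0 < N) (hNu : IsUnit (N : B)) (hu : IsUnit u) (ht0 : t ≠ 0) (ht : (Ideal.span {t}).IsRadical)
    (hζ : IsPrimitiveRoot ζ N) (c : Fin N → FractionRing B)
    (hx : IsIntegral B (Kum.mk (algebraMap B (FractionRing B) (u * t ^ α)) c)) (i : Fin N) :
    c i * algebraMap B (FractionRing B) t ^ ((i : ℕ) * α / N) ∈ (algebraMap B (FractionRing B)).range := by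
  let K := FractionRing B
  let a' : K := algebraMap B K (u * t ^ α)
  let A := Kum K N a'
  have hz : IsPrimitiveRoot (algebraMap B K ζ) N := hζ.map_of_injective (IsFractionRing.injective B K)
  have hσB : ∀ j (b : B), conj (a := a') hz j (algebraMap B A b) = algebraMap B A b := fun j b =>
    conj_of hz j _
  have hint : IsIntegral B (∑ j ∈ Finset.range N,
      AdjoinRoot.of (X ^ N - C a') (algebraMap B K ζ ^ (j * (N - i.1))) * conj hz j (Kum.mk a' c)) := by
    refine IsIntegral.sum _ fun j _ => IsIntegral.mul ?_ ?_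
    · rw [← map_pow]
      exact isIntegral_algebraMap
    · exact hx.map ({ conj (a := a') hz j with commutes' := hσB j } : A →ₐ[B] A)
  rw [sum_conj] at hint
  have h2 := hint.pow (R := B) N
  rw [mul_pow, ← map_pow, pow_right_comm, Kum.root_pow, ← map_pow, ← map_mul] at h2
  haveI : Nontrivial A := AdjoinRoot.nontrivial _ (by
    rw [degree_X_pow_sub_C hN]; exact_mod_cast hN.ne')
  have h3 : IsIntegral B (((N : K) * c i) ^ N * a' ^ (i : ℕ)) :=
    (isIntegral_algebraMap_iff (algebraMap K A).injective).1 h2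
  obtain ⟨z₀, hz₀⟩ := IsIntegrallyClosed.algebraMap_eq_of_integral h3
  let f := (i : ℕ) * α / N
  -- `y = N c tᶠ⁺¹` is in `tB`
  have hsplit : ∃ v : B, ((N : K) * c i * algebraMap B K t ^ (f + 1)) ^ N = algebraMap B K (t * v) := by
    have hlt := Nat.mod_lt ((i : ℕ) * α) hN
    have hdm := Nat.div_add_mod ((i : ℕ) * α) N
    obtain ⟨d, hd⟩ : ∃ d, (f + 1) * N = (i : ℕ) * α + (d + 1) :=
      ⟨N - 1 - (i : ℕ) * α % N, by rw [Nat.add_mul, one_mul, mul_comm f N]; simp only [f]; omega⟩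
    refine ⟨z₀ * ↑(hu.pow (i : ℕ)).unit⁻¹ * t ^ d, ?_⟩
    have e1 : algebraMap B K ↑(hu.pow (i : ℕ)).unit⁻¹ * algebraMap B K u ^ (i : ℕ) = 1 := by
      rw [← map_pow, ← map_mul, IsUnit.val_inv_mul, map_one]
    rw [mul_pow, ← pow_mul, hd, map_mul, map_mul, map_mul, map_pow, hz₀]
    simp only [a', map_mul, map_pow, mul_pow, ← pow_mul]
    calc _ = (N : K) ^ N * c i ^ N * (algebraMap B K ↑(hu.pow (i : ℕ)).unit⁻¹ * algebraMap B K u ^ (i : ℕ)) *
          algebraMap B K t ^ ((i : ℕ) * α + (d + 1)) := by rw [e1, mul_one]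
      _ = _ := by rw [mul_comm (i : ℕ) α]; ring
  obtain ⟨v, hv⟩ := hsplit
  obtain ⟨y, hy⟩ := IsIntegrallyClosed.algebraMap_eq_of_integral
    (IsIntegral.of_pow (R := B) hN (hv ▸ isIntegral_algebraMap (x := t * v)))
  have hyt : y ∈ Ideal.span {t} := ht ⟨N, Ideal.mem_span_singleton.2 ⟨v, IsFractionRing.injective B K (by
    rw [map_pow, hy, hv])⟩⟩
  obtain ⟨y₁, rfl⟩ := Ideal.mem_span_singleton.1 hyt
  refine ⟨y₁ * ↑hNu.unit⁻¹, mul_right_cancel₀ ((map_ne_zero_iff _ (IsFractionRing.injective B K)).2 ht0)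
    (mul_right_cancel₀ (hNu.map (algebraMap B K)).ne_zero ?_)⟩
  rw [← map_mul, ← map_mul, show y₁ * ↑hNu.unit⁻¹ * t * (N : B) = t * y₁ * (↑hNu.unit⁻¹ * (N : B)) by ring,
    IsUnit.val_inv_mul, mul_one, hy, map_natCast, pow_succ]
  ring

end Groth.Agent.CycCovRam
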