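import Groth.Agent.CycPic.Kum
import Mathlib.RingTheory.Etale.Basic
import Mathlib.RingTheory.Smooth.Basic
import Mathlib.RingTheory.Localization.Away.Basic
import Mathlib.Algebra.DualNumber
import Mathlib.RingTheory.RingHom.Etale

/-! # Coordinates on Kummer algebras along a coordinate -/

set_option autoImplicit false
set_option linter.style.haveILetI false

universe u

open Polynomial

noncomputable section

namespace Groth.Agent.CycCovRam

open Groth.Agent.CycPic

variable {k C : Type u} [CommRing k] {n : ℕ} [CommRing C] [Algebra (MvPolynomial (Fin n) k) C] [Algebra k C]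
  [IsScalarTower k (MvPolynomial (Fin n) k) C] [Algebra.FormallyEtale (MvPolynomial (Fin n) k) C]

local notation "P" => MvPolynomial (Fin n) k

/-- Lifts from a ring formally étale over a polynomial ring are determined by, and exist for, any values of the
coordinates. -/
theorem existsUnique_lift {R : Type u} [CommRing R] [Algebra k R] (I : Ideal R) (hI : I ^ 2 = ⊥)
    (g : C →ₐ[k] R ⧸ I) (p : Fin n → R)
    (hp : ∀ i, Ideal.Quotient.mk I (p i) = g (algebraMap P C (MvPolynomial.X i))) :
    ∃! β : C →ₐ[k] R, (∀ c, Ideal.Quotient.mk I (β c) = g c) ∧ ∀ i, β (algebraMap P C (MvPolynomial.X i)) = p i := by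
  letI : Algebra P R := (MvPolynomial.aeval p : P →ₐ[k] R).toRingHom.toAlgebra
  haveI : IsScalarTower k P R := IsScalarTower.of_algebraMap_eq fun c =>
    ((MvPolynomial.aeval p : P →ₐ[k] R).commutes c).symm
  have hg : (g.comp (IsScalarTower.toAlgHom k P C)) = (Ideal.Quotient.mkₐ k I).comp (MvPolynomial.aeval p) :=
    MvPolynomial.algHom_ext fun i => (hp i).symm.trans (congrArg (Ideal.Quotient.mk I) (MvPolynomial.aeval_X p i).symm)
  let g' : C →ₐ[P] R ⧸ I := { g with commutes' := fun q => DFunLike.congr_fun hg q }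
  obtain ⟨β, hβ⟩ := Algebra.FormallySmooth.comp_surjective P C I hI g'
  refine ⟨β.restrictScalars k, ⟨fun c => DFunLike.congr_fun hβ c,
    fun i => (β.commutes (MvPolynomial.X i)).trans (MvPolynomial.aeval_X p i)⟩, fun β' h => ?_⟩
  have hc : β'.comp (IsScalarTower.toAlgHom k P C) = MvPolynomial.aeval p :=
    MvPolynomial.algHom_ext fun i => (h.2 i).trans (MvPolynomial.aeval_X p i).symm
  let β'' : C →ₐ[P] R := { β' with commutes' := fun q => DFunLike.congr_fun hc q }
  have := Algebra.FormallyUnramified.comp_injective I hI (a₁ := β) (a₂ := β'')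
    (hβ.trans (AlgHom.ext fun c => (h.1 c).symm))
  exact AlgHom.ext fun c => (DFunLike.congr_fun this c).symm

/-- The partial derivative in the `j`-th coordinate. -/
theorem exists_partial (j : Fin n) :
    ∃ d : C → C, (∀ a b, d (a + b) = d a + d b) ∧ (∀ a b, d (a * b) = a * d b + d a * b) ∧
      (∀ c : k, d (algebraMap k C c) = 0) ∧
      ∀ i, d (algebraMap P C (MvPolynomial.X i)) = if i = j then 1 else 0 := by
  let I : Ideal (DualNumber C) := RingHom.ker (TrivSqZeroExt.fstHom k C C).toRingHom
  have hI : I ^ 2 = ⊥ := by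
    rw [sq, eq_bot_iff]
    refine Ideal.mul_le.2 fun a ha b hb => ?_
    have ha' : TrivSqZeroExt.fst a = 0 := ha
    have hb' : TrivSqZeroExt.fst b = 0 := hb
    rw [Ideal.mem_bot]
    exact TrivSqZeroExt.ext (by simp [ha']) (by simp [ha', hb'])
  obtain ⟨β, ⟨hβ, hβX⟩, -⟩ := existsUnique_lift (C := C) I hI
    ((Ideal.Quotient.mkₐ k I).comp (TrivSqZeroExt.inlAlgHom k C C))
    (fun i => TrivSqZeroExt.inl (algebraMap P C (MvPolynomial.X i)) + TrivSqZeroExt.inr (if i = j then 1 else 0))
    (fun i => by
      show Ideal.Quotient.mk I _ = Ideal.Quotient.mk I _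
      refine Ideal.Quotient.eq.2 ?_
      show TrivSqZeroExt.fst _ = (0 : C)
      split_ifs <;> simp)
  have hfst : ∀ c, TrivSqZeroExt.fst (β c) = c := fun c => by
    have h : β c - TrivSqZeroExt.inl c ∈ I := Ideal.Quotient.eq.1 (hβ c)
    have h' : TrivSqZeroExt.fst (β c - TrivSqZeroExt.inl c) = 0 := h
    rwa [TrivSqZeroExt.fst_sub, TrivSqZeroExt.fst_inl, sub_eq_zero] at h'
  refine ⟨fun c => TrivSqZeroExt.snd (β c), fun a b => ?_, fun a b => ?_, fun c => ?_, fun i => ?_⟩
  · simp [map_add]
  · simp only [map_mul, TrivSqZeroExt.snd_mul, hfst, smul_eq_mul, MulOpposite.smul_eq_mul_unop, MulOpposite.unop_op]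
  · show TrivSqZeroExt.snd (β _) = _
    rw [β.commutes, TrivSqZeroExt.algebraMap_eq_inl']; simp
  · show TrivSqZeroExt.snd (β _) = _
    rw [hβX]; split_ifs <;> simp

/-- The coordinates of a Kummer algebra along the `j`-th coordinate. -/
def coordHom (j : Fin n) (e : ℕ) (a : C) : P →ₐ[k] Kum C e a :=
  MvPolynomial.aeval (Function.update (fun i => AdjoinRoot.of _ (algebraMap P C (MvPolynomial.X i))) j (AdjoinRoot.root _))

theorem exists_etale_coord (j : Fin n) (e : ℕ) {v : C} :
    ∃ h : C, h - v ∈ Ideal.span {algebraMap P C (MvPolynomial.X j)} ∧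
      ∀ (A : Type u) [CommRing A] [Algebra (Kum C e (algebraMap P C (MvPolynomial.X j) * v)) A]
        [IsLocalization.Away (AdjoinRoot.of _ h : Kum C e (algebraMap P C (MvPolynomial.X j) * v)) A],
        ((algebraMap (Kum C e (algebraMap P C (MvPolynomial.X j) * v)) A).comp
          (coordHom (k := k) j e _).toRingHom).FormallyEtale := by
  classical
  obtain ⟨d, dadd, dmul, dk, dX⟩ := exists_partial (k := k) (C := C) j
  let t : C := algebraMap P C (MvPolynomial.X j)
  refine ⟨v + t * d v, Ideal.mem_span_singleton.2 ⟨d v, by ring⟩, fun A _ _ _ => ?_⟩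
  let h : C := v + t * d v
  let A' := Kum C e (t * v)
  let ι : C →+* A := (algebraMap A' A).comp (AdjoinRoot.of _)
  let S : A := algebraMap A' A (AdjoinRoot.root _)
  have hh : IsUnit (ι h) := IsLocalization.Away.algebraMap_isUnit (AdjoinRoot.of _ h : A')
  have dtv : d (t * v) = h := by
    rw [dmul, dX, if_pos rfl, one_mul, add_comm]
  let ρ : P →+* A := (algebraMap A' A).comp (coordHom (k := k) j e _).toRingHom
  letI := ρ.toAlgebra
  show Algebra.FormallyEtale P A
  have hρj : algebraMap P A (MvPolynomial.X j) = S := by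
    show algebraMap A' A (coordHom (k := k) j e _ (MvPolynomial.X j)) = _
    rw [coordHom, MvPolynomial.aeval_X, Function.update_self]
  have hρi : ∀ i, i ≠ j → algebraMap P A (MvPolynomial.X i) = ι (algebraMap P C (MvPolynomial.X i)) := fun i hi => by
    show algebraMap A' A (coordHom (k := k) j e _ (MvPolynomial.X i)) = _
    rw [coordHom, MvPolynomial.aeval_X, Function.update_of_ne hi]
    rfl
  have hρk : ∀ c, algebraMap P A (MvPolynomial.C c) = ι (algebraMap k C c) := fun c => by
    show algebraMap A' A (coordHom (k := k) j e _ (algebraMap k P c)) = _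
    rw [AlgHom.commutes]
    rfl
  refine Algebra.FormallyEtale.iff_comp_bijective.2 fun R _ _ I hI => ?_
  letI : Algebra k R := ((algebraMap P R).comp MvPolynomial.C).toAlgebra
  have hsq : ∀ a b : R, a ∈ I → b ∈ I → a * b = 0 := fun a b ha hb => by
    have h := Ideal.mul_mem_mul ha hb
    rwa [← sq, hI, Ideal.mem_bot] at h
  -- the deformation of a lift in the `j`-th coordinate
  have hdef : ∀ (β : C →ₐ[k] R) (δ : R), δ ∈ I → ∃ β' : C →ₐ[k] R, ∀ c, β' c = β c + β (d c) * δ := by
    intro β δ hδ
    have d1 : d 1 = 0 := by simpa using dk 1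
    have d0 : d 0 = 0 := by simpa using dk 0
    exact ⟨{ toFun := fun c => β c + β (d c) * δ
             map_one' := by simp [d1]
             map_mul' := fun a b => by
               rw [dmul, map_add, map_mul, map_mul, map_mul]
               linear_combination (-(β (d a) * β (d b))) * hsq δ δ hδ hδ
             map_zero' := by simp [d0]
             map_add' := fun a b => by rw [dadd, map_add, map_add]; ring
             commutes' := fun c => by simp [dk] }, fun c => rfl⟩
  constructor
  · intro Φ Φ' hΦ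
    have hm : ∀ x, Ideal.Quotient.mk I (Φ x) = Ideal.Quotient.mk I (Φ' x) := fun x => DFunLike.congr_fun hΦ x
    have hk : ∀ (Ψ : A →ₐ[P] R) c, Ψ (ι (algebraMap k C c)) = algebraMap k R c := fun Ψ c => by
      rw [← hρk, Ψ.commutes]; rfl
    let β : C →ₐ[k] R := { (Φ.toRingHom.comp ι) with commutes' := hk Φ }
    let β' : C →ₐ[k] R := { (Φ'.toRingHom.comp ι) with commutes' := hk Φ' }
    let δ := β' t - β t
    have hδ : δ ∈ I := Ideal.Quotient.eq.1 (hm _).symm
    obtain ⟨βδ, hβδ⟩ := hdef β δ hδ
    have hagree : ∀ i, i ≠ j → β' (algebraMap P C (MvPolynomial.X i)) = β (algebraMap P C (MvPolynomial.X i)) := fun i hi => by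
      show Φ' (ι _) = Φ (ι _)
      rw [← hρi i hi, Φ.commutes, Φ'.commutes]
    have heq : β' = βδ := by
      refine (existsUnique_lift I hI ((Ideal.Quotient.mkₐ k I).comp β') (fun i => β' (algebraMap P C (MvPolynomial.X i)))
        (fun i => rfl)).unique ⟨fun c => rfl, fun i => rfl⟩ ⟨fun c => ?_, fun i => ?_⟩
      · show Ideal.Quotient.mk I (βδ c) = Ideal.Quotient.mk I (β' c)
        rw [hβδ, map_add, Ideal.Quotient.eq_zero_iff_mem.2 (I.mul_mem_left _ hδ), add_zero]
        exact hm _
      · rw [hβδ, dX]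
        rcases eq_or_ne i j with rfl | hi
        · rw [if_pos rfl, map_one, one_mul]; show β t + (β' t - β t) = β' t; ring
        · rw [if_neg hi, map_zero, zero_mul, add_zero, hagree i hi]
    have hS : ∀ Ψ : A →ₐ[P] R, Ψ (ι (t * v)) = algebraMap P R (MvPolynomial.X j) ^ e := fun Ψ => by
      rw [← Ψ.commutes, hρj, ← map_pow, ← map_pow, Kum.root_pow]; rfl
    have hδ0 : δ = 0 := by
      have h1 : β' (t * v) = β (t * v) := (hS Φ').trans (hS Φ).symm
      rw [heq, hβδ, dtv, add_eq_left] at h1
      exact (hh.map Φ).mul_right_eq_zero.1 h1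
    refine AlgHom.coe_ringHom_injective (IsLocalization.ringHom_ext (Submonoid.powers (AdjoinRoot.of _ h : A'))
      (AdjoinRoot.ringHom_ext (RingHom.ext fun c => ?_) ?_))
    · show β c = β' c
      rw [heq, hβδ, hδ0, mul_zero, add_zero]
    · show Φ S = Φ' S
      rw [← hρj, Φ.commutes, Φ'.commutes]
  · intro f
    have hk : ∀ c, f (ι (algebraMap k C c)) = algebraMap k (R ⧸ I) c := fun c => by
      rw [← hρk, f.commutes]; rfl
    let g : C →ₐ[k] R ⧸ I := { (f.toRingHom.comp ι) with commutes' := hk }
    obtain ⟨τ, hτ⟩ := Ideal.Quotient.mk_surjective (g t)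
    obtain ⟨β, ⟨hβ, hβX⟩, -⟩ := existsUnique_lift I hI g
      (Function.update (fun i => algebraMap P R (MvPolynomial.X i)) j τ) fun i => by
        rcases eq_or_ne i j with rfl | hi
        · rw [Function.update_self]; exact hτ
        · rw [Function.update_of_ne hi]
          show _ = f (ι _)
          rw [← hρi i hi, f.commutes]
          rfl
    let s := algebraMap P R (MvPolynomial.X j)
    let F := s ^ e - β (t * v)
    have hF : F ∈ I := by
      rw [← Ideal.Quotient.eq_zero_iff_mem, map_sub, hβ, map_pow (Ideal.Quotient.mk I), sub_eq_zero,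
        Ideal.Quotient.mk_algebraMap, ← f.commutes, hρj, ← map_pow f, ← map_pow, Kum.root_pow]
      rfl
    obtain ⟨y, hy⟩ := Ideal.Quotient.mk_surjective (↑(hh.map f).unit⁻¹ : R ⧸ I)
    have hlift : ∀ x : R, Ideal.Quotient.mk I x = f (ι h) → IsUnit x := fun x hx => by
      have h1 : x * y - 1 ∈ I := by
        rw [← Ideal.Quotient.eq_zero_iff_mem, map_sub, map_mul, hx, hy, map_one, IsUnit.mul_val_inv, sub_self]
      have h2 := hsq _ _ h1 h1
      exact IsUnit.of_mul_eq_one (y * (2 - x * y)) (by linear_combination -h2)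
    obtain ⟨w, hw⟩ := (hlift (β h) (hβ h)).exists_left_inv
    have hδ : F * w ∈ I := I.mul_mem_right _ hF
    obtain ⟨β', hβ'⟩ := hdef β (F * w) hδ
    have hmk : ∀ c, Ideal.Quotient.mk I (β' c) = g c := fun c => by
      rw [hβ', map_add, Ideal.Quotient.eq_zero_iff_mem.2 (I.mul_mem_left _ hδ), add_zero, hβ]
    have key : s ^ e = β'.toRingHom (t * v) := by
      show s ^ e = β' (t * v)
      rw [hβ', dtv]
      linear_combination -F * hw
    let Φ₀ : A' →+* R := Kum.lift β'.toRingHom s key
    have hu : IsUnit (Φ₀ (AdjoinRoot.of _ h)) := by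
      rw [Kum.lift_of]; exact hlift _ (hmk h)
    let Φ : A →+* R := IsLocalization.Away.lift (AdjoinRoot.of _ h : A') hu
    have hΦ : ∀ a, Φ (algebraMap A' A a) = Φ₀ a := fun a => IsLocalization.Away.lift_eq _ hu a
    have hcomm : (Φ.comp ρ) = algebraMap P R := by
      refine MvPolynomial.ringHom_ext (fun c => ?_) (fun i => ?_)
      · show Φ (algebraMap P A (MvPolynomial.C c)) = _
        rw [hρk]
        exact ((hΦ _).trans (Kum.lift_of _ _ _ _)).trans (β'.commutes c)
      · show Φ (algebraMap P A (MvPolynomial.X i)) = _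
        rcases eq_or_ne i j with rfl | hi
        · rw [hρj]; exact (hΦ _).trans (Kum.lift_root _ _ _)
        · rw [hρi i hi]
          refine ((hΦ _).trans (Kum.lift_of _ _ _ _)).trans ?_
          show β' _ = _
          rw [hβ', dX, if_neg hi, map_zero, zero_mul, add_zero, hβX, Function.update_of_ne hi]
    refine ⟨{ Φ with commutes' := fun q => DFunLike.congr_fun hcomm q }, AlgHom.coe_ringHom_injective
      (IsLocalization.ringHom_ext (Submonoid.powers (AdjoinRoot.of _ h : A'))
        (AdjoinRoot.ringHom_ext (RingHom.ext fun c => ?_) ?_))⟩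
    · show Ideal.Quotient.mk I (Φ (ι c)) = f (ι c)
      exact (congrArg _ ((hΦ _).trans (Kum.lift_of _ _ _ _))).trans (hmk c)
    · show Ideal.Quotient.mk I (Φ S) = f S
      rw [(hΦ _).trans (Kum.lift_root _ _ _), ← hρj, f.commutes]
      rfl

end Groth.Agent.CycCovRam
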