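import Groth.Agent.CycCovRam.SmoothMain
import Groth.Agent.CycCovRam.EtaleChart
import Groth.Prelude.Def_LogNCD
import Mathlib.AlgebraicGeometry.AffineSpace

/-! # Normal crossings upstairs on cyclic covers -/

set_option autoImplicit false
set_option linter.style.haveILetI false
set_option backward.isDefEq.respectTransparency false

universe u

open CategoryTheory AlgebraicGeometry Opposite TopologicalSpace

noncomputable section

namespace Groth.Agent.CycCovRam

open Groth.Agent.QCoh Groth.Agent.Props.GenLocus Groth.Agent.Props.GenTensor Groth.Agent.CycPic Groth.Agent.CycCovEt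

variable {X Y : Scheme.{u}}

lemma isRadical_coord {K : Type u} [CommRing K] [IsDomain K] {A : Type u} [CommRing A] {n : ℕ}
    (ψ : MvPolynomial (Fin n) K →+* A) (hψ : ψ.Etale) (i : Fin n) : (Ideal.span {ψ (MvPolynomial.X i)}).IsRadical := by
  letI := ψ.toAlgebra
  haveI : Algebra.Etale (MvPolynomial (Fin n) K) A := RingHom.etale_algebraMap.1 hψ
  haveI : IsReduced (MvPolynomial (Fin n) K ⧸ Ideal.span {(MvPolynomial.X i : MvPolynomial (Fin n) K)}) :=
    (Ideal.isRadical_iff_quotient_reduced _).1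
      ((Ideal.span_singleton_prime (MvPolynomial.X_ne_zero _)).2 MvPolynomial.X_prime).isRadical
  have h1 := EtRamLib.Kummer.Basis.isReduced_quotient_map (R := A)
    (Ideal.span {(MvPolynomial.X i : MvPolynomial (Fin n) K)})
  rw [Ideal.map_span, Set.image_singleton] at h1
  exact (Ideal.isRadical_iff_quotient_reduced _).2 h1

lemma radical_comap_ideal (I : X.IdealSheafData) {π : Y ⟶ X} (U : X.affineOpens) (h : IsAffineOpen (π ⁻¹ᵁ U.1)) :
    (I.comap π).radical.ideal ⟨π ⁻¹ᵁ U.1, h⟩ = ((I.ideal U).map (π.app U.1).hom).radical := by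
  rw [← IdealSh.Comap.ideal_comap_app I π U h]
  rfl

lemma radical_comap_ideal_le (I : X.IdealSheafData) {π : Y ⟶ X} {U : X.affineOpens} {V : Y.affineOpens}
    (hVU : V.1 ≤ π ⁻¹ᵁ U.1) :
    (I.comap π).radical.ideal V =
      (((I.ideal U).map (π.app U.1).hom).map (Y.presheaf.map (homOfLE hVU).op).hom).radical := by
  rw [Ideal.map_map, ← CommRingCat.hom_comp]
  exact congrArg Ideal.radical (IdealSh.Comap.ideal_comap I π U V hVU)

/-- The chart of coordinates given by an étale map from a polynomial ring. -/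
theorem etale_homOfVector {K : Type u} [CommRing K] (g : Y ⟶ Spec (CommRingCat.of K)) {V : Y.Opens}
    (hV : IsAffineOpen V) {n : ℕ} (ψ : MvPolynomial (Fin n) Γ(Spec (CommRingCat.of K), ⊤) →+* Γ(Y, V)) (hψ : ψ.Etale)
    (hC : ψ.comp MvPolynomial.C = (g.appLE ⊤ V le_top).hom) :
    Etale (AffineSpace.homOfVector (V.ι ≫ g)
      (fun i : ULift.{u} (Fin n) => V.topIso.inv (ψ (MvPolynomial.X i.down)))) := by
  haveI : IsAffine V.toScheme := hV
  let S := Spec (CommRingCat.of K)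
  let w : ULift.{u} (Fin n) → Γ(V.toScheme, ⊤) := fun i => V.topIso.inv (ψ (MvPolynomial.X i.down))
  let h' := AffineSpace.homOfVector (V.ι ≫ g) w
  let q : V.toScheme ⟶ Spec (CommRingCat.of (MvPolynomial (ULift.{u} (Fin n)) Γ(S, ⊤))) :=
    h' ≫ (AffineSpace.isoOfIsAffine (ULift.{u} (Fin n)) S).hom
  let ψ₀ := ((Scheme.ΓSpecIso (CommRingCat.of (MvPolynomial (ULift.{u} (Fin n)) Γ(S, ⊤)))).inv ≫ q.appTop).hom
  let eP := (MvPolynomial.renameEquiv Γ(S, ⊤) (Equiv.ulift : ULift.{u} (Fin n) ≃ Fin n)).toRingEquiv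
  have hψ₀ : ψ₀ = V.topIso.inv.hom.comp (ψ.comp eP.toRingHom) := by
    have e1 : ψ₀ = (CommRingCat.ofHom (MvPolynomial.eval₂Hom ((AffineSpace (ULift.{u} (Fin n)) S ↘ S).appTop).hom
        (AffineSpace.coord S)) ≫ h'.appTop).hom := by
      simp only [ψ₀, q, Scheme.Hom.comp_appTop, AffineSpace.isoOfIsAffine_hom_appTop, Category.assoc,
        Iso.inv_hom_id_assoc]
    rw [e1]
    refine MvPolynomial.ringHom_ext (fun a => ?_) (fun i => ?_)
    · simp only [CommRingCat.hom_comp, CommRingCat.hom_ofHom, RingHom.comp_apply, MvPolynomial.eval₂Hom_C]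
      have := congr($(Scheme.Hom.comp_appTop h' (AffineSpace (ULift.{u} (Fin n)) S ↘ S)) a)
      rw [AffineSpace.homOfVector_over] at this
      refine this.symm.trans ?_
      have h2 : ψ (eP (MvPolynomial.C a)) = (g.appLE ⊤ V le_top).hom a := by
        simp only [eP, AlgEquiv.coe_ringEquiv, MvPolynomial.renameEquiv_apply, MvPolynomial.rename_C]
        exact DFunLike.congr_fun hC a
      refine Eq.trans ?_ (congrArg V.topIso.inv h2).symm
      show (V.ι ≫ g).appTop a = (g.appLE ⊤ V le_top ≫ V.topIso.inv) a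
      congr 2
      simp [Scheme.Hom.appLE, ← Functor.map_comp]
    · simp only [CommRingCat.hom_comp, CommRingCat.hom_ofHom, RingHom.comp_apply, MvPolynomial.eval₂Hom_X']
      refine (AffineSpace.homOfVector_appTop_coord _ _ _).trans ?_
      show V.topIso.inv (ψ (MvPolynomial.X i.down)) = V.topIso.inv (ψ (eP (MvPolynomial.X i)))
      simp only [eP, AlgEquiv.coe_ringEquiv, MvPolynomial.renameEquiv_apply, MvPolynomial.rename_X]
      rfl
  have hq : Etale q := by
    refine (HasRingHomProperty.iff_of_isAffine (P := @Etale)).mpr ?_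
    have h1 : ψ₀.Etale := by
      rw [hψ₀]
      exact RingHom.Etale.respectsIso.1 (ψ.comp eP.toRingHom) V.topIso.symm.commRingCatIsoToRingEquiv
        (RingHom.Etale.respectsIso.2 ψ eP hψ)
    have h2 := RingHom.Etale.respectsIso.2 ψ₀
      (Scheme.ΓSpecIso (CommRingCat.of (MvPolynomial (ULift.{u} (Fin n)) Γ(S, ⊤)))).commRingCatIsoToRingEquiv h1
    convert h2 using 1
    ext a
    show q.appTop a = ((Scheme.ΓSpecIso (CommRingCat.of (MvPolynomial (ULift.{u} (Fin n)) Γ(S, ⊤)))).hom ≫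
      (Scheme.ΓSpecIso (CommRingCat.of (MvPolynomial (ULift.{u} (Fin n)) Γ(S, ⊤)))).inv ≫ q.appTop) a
    rw [Iso.hom_inv_id_assoc]
  have : h' = q ≫ (AffineSpace.isoOfIsAffine (ULift.{u} (Fin n)) S).inv := by simp [q]
  show Etale h'
  rw [this]
  infer_instance

variable [IsIntegral X] {L : X.Modules} {N : ℕ} {s : Coh.structureModule X ⟶ CohB1.tensorPow L N} {π : Y ⟶ X}

set_option maxHeartbeats 1000000 in
theorem exists_local_coord {k : Type u} [Field k] (f : X ⟶ Spec (CommRingCat.of k)) [Smooth f]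
    (hL : PicF.IsInvertible L) (hN : 0 < N) (hNk : (N : k) ≠ 0) {ζ : k} (hζ : IsPrimitiveRoot ζ N)
    (hnX : Pi1.IsNormalScheme X) {r : ℕ} (D : Fin r → X.IdealSheafData) (α : Fin r → ℕ) (hD : LogNCD.IsNCD D f)
    (hs : CycCov.IsZeroDiv (CohB1.tensorPow L N) s (CycCov.divIdeal D α))
    {R : CycCov.Root L N s π} (hR : CycCov.IsCover R) (y : Y)
    (hx : ∀ j j' : Fin r, 0 < α j → 0 < α j' → π y ∈ (D j).support → π y ∈ (D j').support → j = j') :
    ∃ (V : Y.affineOpens) (n : ℕ) (ψ : MvPolynomial (Fin n) Γ(Spec (CommRingCat.of k), ⊤) →+* Γ(Y, V.1))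
      (emb : LogNCD.Through D (π y) → Fin n), y ∈ V.1 ∧ ψ.Etale ∧
      ψ.comp MvPolynomial.C = ((π ≫ f).appLE ⊤ V.1 le_top).hom ∧ Function.Injective emb ∧
      (∀ i : LogNCD.Through D (π y), (((D i.1).comap π).radical).ideal V = Ideal.span {ψ (MvPolynomial.X (emb i))}) ∧
      (∀ i, π y ∉ (D i).support → (((D i).comap π).radical).ideal V = ⊤) := by
  haveI := hR.1
  let x := π y
  obtain ⟨U₁, e₁, hxU₁, he₁⟩ := exists_isGen hL x
  obtain ⟨U, hle, n, φ, emb, hxU, hUU₁, hφC, hφet, hemb, hthr, hoff⟩ :=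
    LiftLib.NCDChart.exists_chart f D hD x U₁ hxU₁ ⟨⊤, isAffineOpen_top _⟩ trivial
  haveI : Nonempty U.1 := ⟨⟨x, hxU⟩⟩
  haveI : IsIntegrallyClosed Γ(X, U.1) := isIntegrallyClosed_of_normal hnX U.1
  let κ : k →+* Γ(X, U.1) := ((Scheme.ΓSpecIso (CommRingCat.of k)).inv ≫ f.appLE ⊤ U.1 le_top).hom
  have hNu : IsUnit (N : Γ(X, U.1)) := by simpa using (isUnit_iff_ne_zero.2 hNk).map κ
  by_cases hex : ∀ j, 0 < α j → x ∉ (D j).support
  · have hI : (CycCov.divIdeal D α).ideal U = ⊤ := by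
      rw [CycCov.divIdeal, prod_ideal, ← Ideal.one_eq_top]
      refine Finset.prod_eq_one fun i _ => ?_
      rw [Scheme.IdealSheafData.ideal_pow, Pi.pow_apply]
      rcases Nat.eq_zero_or_pos (α i) with h0 | h0
      · rw [h0, pow_zero]
      · rw [hoff i (hex i h0), Ideal.top_pow, Ideal.one_eq_top]
    let e : Γ(L, U.1) := res L hUU₁ e₁
    have he : Props.GenLocus.IsGen L U.1 e := he₁.restrict hUU₁
    have hg : CycCov.IsGen _ U.1 (pw L e N) := isGen_prelude (isGen_pw he N)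
    obtain ⟨c, hc⟩ := hg.2 (SecTwist.val s U.1)
    replace hc : SecTwist.val s U.1 = c • pw L e N := hc.symm
    have hcu := isUnit_coord s hs U hI hg hc
    rw [← lpow_eq_pw] at hc
    have h1 := etale_app hN hR hnX U hNu (hζ.map_of_injective κ.injective) e he c hcu hc
    let V : Y.affineOpens := ⟨π ⁻¹ᵁ U.1, U.2.preimage π⟩
    have hψet : ((π.app U.1).hom.comp φ).Etale := RingHom.Etale.stableUnderComposition _ _ hφet h1
    refine ⟨V, n, (π.app U.1).hom.comp φ, emb, hxU, hψet, ?_, hemb, fun i => ?_, fun i hi => ?_⟩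
    · rw [RingHom.comp_assoc, hφC, ← CommRingCat.hom_comp]
      congr 1
      rw [π.app_eq_appLE, Scheme.Hom.appLE_comp_appLE]
    · rw [radical_comap_ideal, hthr i, Ideal.map_span, Set.image_singleton]
      haveI : IsReduced Γ(Spec (CommRingCat.of k), ⊤) :=
        isReduced_of_injective (Scheme.ΓSpecIso (CommRingCat.of k)).commRingCatIsoToRingEquiv.toRingHom
          (RingEquiv.injective _)
      exact (isRadical_coord ((π.app U.1).hom.comp φ) hψet (emb i)).radical
    · rw [radical_comap_ideal, hoff i hi, Ideal.map_top, Ideal.radical_top]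
  push Not at hex
  obtain ⟨j, hjα, hj⟩ := hex
  haveI : IsReduced Γ(Spec (CommRingCat.of k), ⊤) :=
    isReduced_of_injective (Scheme.ΓSpecIso (CommRingCat.of k)).commRingCatIsoToRingEquiv.toRingHom
      (RingEquiv.injective _)
  haveI : IsDomain Γ(Spec (CommRingCat.of k), ⊤) :=
    ((Scheme.ΓSpecIso (CommRingCat.of k)).commRingCatIsoToRingEquiv).toMulEquiv.isDomain_iff.2 inferInstance
  letI := φ.toAlgebra
  haveI : Algebra.Etale (MvPolynomial (Fin n) Γ(Spec (CommRingCat.of k), ⊤)) Γ(X, U.1) :=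
    RingHom.etale_algebraMap.1 hφet
  let t : Γ(X, U.1) := φ (MvPolynomial.X (emb ⟨j, hj⟩))
  have hDj : (D j).ideal U = Ideal.span {t} := hthr ⟨j, hj⟩
  have hP : (Ideal.span {(MvPolynomial.X (emb ⟨j, hj⟩) : MvPolynomial (Fin n) Γ(Spec (CommRingCat.of k), ⊤))}).IsPrime :=
    (Ideal.span_singleton_prime (MvPolynomial.X_ne_zero _)).2 MvPolynomial.X_prime
  have ht : (Ideal.span {t}).IsRadical := by
    haveI : IsReduced (MvPolynomial (Fin n) Γ(Spec (CommRingCat.of k), ⊤) ⧸
        Ideal.span {(MvPolynomial.X (emb ⟨j, hj⟩) : MvPolynomial (Fin n) Γ(Spec (CommRingCat.of k), ⊤))}) :=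
      (Ideal.isRadical_iff_quotient_reduced _).1 hP.isRadical
    have h1 := EtRamLib.Kummer.Basis.isReduced_quotient_map (R := Γ(X, U.1))
      (Ideal.span {(MvPolynomial.X (emb ⟨j, hj⟩) : MvPolynomial (Fin n) Γ(Spec (CommRingCat.of k), ⊤))})
    rw [Ideal.map_span, Set.image_singleton] at h1
    exact (Ideal.isRadical_iff_quotient_reduced _).2 h1
  have ht0 : t ≠ 0 := fun h0 => by
    have h1 := EtRamLib.Kummer.Basis.mem_map_of_mul_mem (R := Γ(X, U.1))
      (⊥ : Ideal (MvPolynomial (Fin n) Γ(Spec (CommRingCat.of k), ⊤))) (MvPolynomial.X (emb ⟨j, hj⟩))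
      (fun z hz => by simpa [MvPolynomial.X_ne_zero] using hz) 1
      (by rw [mul_one, Ideal.map_bot, Ideal.mem_bot]; exact h0)
    rw [Ideal.map_bot, Ideal.mem_bot] at h1
    exact one_ne_zero h1
  -- the section in a frame
  have hI : (CycCov.divIdeal D α).ideal U = Ideal.span {t ^ α j} := by
    rw [CycCov.divIdeal, prod_ideal, Finset.prod_eq_single j]
    · rw [Scheme.IdealSheafData.ideal_pow, Pi.pow_apply, hDj, Ideal.span_singleton_pow]
    · intro i _ hi
      rw [Scheme.IdealSheafData.ideal_pow, Pi.pow_apply]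
      rcases Nat.eq_zero_or_pos (α i) with h0 | h0
      · rw [h0, pow_zero]
      · rw [hoff i (fun h => hi (hx i j h0 hjα h hj)), Ideal.top_pow, Ideal.one_eq_top]
    · simp
  let e : Γ(L, U.1) := res L hUU₁ e₁
  have he : Props.GenLocus.IsGen L U.1 e := he₁.restrict hUU₁
  have hg : CycCov.IsGen _ U.1 (pw L e N) := isGen_prelude (isGen_pw he N)
  obtain ⟨c, hc⟩ := hg.2 (SecTwist.val s U.1)
  replace hc : SecTwist.val s U.1 = c • pw L e N := hc.symm
  have hz := hs U
  rw [hI, hc] at hz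
  have hc1 : t ^ α j ∣ c := by
    have h1 : (c • pw L e N : (CohB1.tensorPow L N).val.obj (op U.1)) ∈ Submodule.span Γ(X, U.1) {c • pw L e N} :=
      Submodule.mem_span_singleton_self _
    rw [hz] at h1
    refine Submodule.smul_induction_on (p := fun m => ∀ d : Γ(X, U.1), m = d • pw L e N → t ^ α j ∣ d) h1 ?_ ?_ c rfl
    · intro a ha m _ d hd
      obtain ⟨d', hd'⟩ := hg.2 m
      rw [← hd', smul_smul] at hd
      rw [← hg.1 hd]
      exact (Ideal.mem_span_singleton.1 ha).mul_right _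
    · intro m₁ m₂ h₁ h₂ d hd
      obtain ⟨d₁, hd₁⟩ := hg.2 m₁
      obtain ⟨d₂, hd₂⟩ := hg.2 m₂
      rw [← hd₁, ← hd₂, ← add_smul] at hd
      rw [← hg.1 hd]
      exact dvd_add (h₁ d₁ hd₁.symm) (h₂ d₂ hd₂.symm)
  obtain ⟨v, rfl⟩ := hc1
  have hv : IsUnit v := by
    have h1 : (t ^ α j • pw L e N : (CohB1.tensorPow L N).val.obj (op U.1)) ∈
        Submodule.span Γ(X, U.1) {(t ^ α j * v) • pw L e N} := by
      rw [hz]; exact Submodule.smul_mem_smul (Ideal.mem_span_singleton_self _) trivial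
    obtain ⟨a, ha⟩ := Submodule.mem_span_singleton.1 h1
    rw [smul_smul] at ha
    have h2 := hg.1 ha
    refine IsUnit.of_mul_eq_one_right a (mul_left_cancel₀ (pow_ne_zero (α j) ht0) ?_)
    rw [mul_one, mul_left_comm]; exact h2
  rw [mul_comm] at hc
  obtain ⟨ψ, hinj, hof, htf, hfrac⟩ := chart_props hN hR U e he (v * t ^ α j) (by rw [lpow_eq_pw]; exact hc)
  haveI := hR.1
  obtain ⟨e', w, θ, he', he'N, hw, hθ, hθι⟩ := exists_structure hN hjα hNu hv ht0 ht
    (hζ.map_of_injective κ.injective) ψ hinj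
    (fun c => by
      rw [show ψ.comp (AdjoinRoot.of _) = (π.app U.1).hom from RingHom.ext hof]
      exact (π.finite_app U.1 U.2).to_isIntegral c)
    htf hfrac (fun b y n => dvd_of_pow_dvd (U.2.preimage π) hR.2.1 b y n)
  -- the coordinates near `y`
  letI : Algebra Γ(Spec (CommRingCat.of k), ⊤) Γ(X, U.1) := (φ.comp MvPolynomial.C).toAlgebra
  haveI : IsScalarTower Γ(Spec (CommRingCat.of k), ⊤) (MvPolynomial (Fin n) Γ(Spec (CommRingCat.of k), ⊤)) Γ(X, U.1) :=
    IsScalarTower.of_algebraMap_eq fun _ => rfl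
  let g := Nat.gcd N (α j)
  have hg0 : 0 < g := Nat.gcd_pos_of_pos_left _ hN
  haveI := Kum.etale hg0 hv (isUnit_of_dvd_unit (Nat.cast_dvd_cast (Nat.gcd_dvd_left N (α j))) hNu)
  haveI : Algebra.Etale (MvPolynomial (Fin n) Γ(Spec (CommRingCat.of k), ⊤)) (Kum Γ(X, U.1) g v) :=
    Algebra.Etale.comp (MvPolynomial (Fin n) Γ(Spec (CommRingCat.of k), ⊤)) Γ(X, U.1) _
  let C := Kum Γ(X, U.1) g v
  let jn := emb ⟨j, hj⟩
  let tC : C := algebraMap (MvPolynomial (Fin n) Γ(Spec (CommRingCat.of k), ⊤)) C (MvPolynomial.X jn)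
  let A' := Kum C e' (tC * w)
  obtain ⟨h, hhw, hh⟩ := exists_etale_coord (k := Γ(Spec (CommRingCat.of k), ⊤)) (C := C) jn e' (v := w)
  let Θ : A' ≃+* Γ(Y, π ⁻¹ᵁ U.1) := RingEquiv.ofBijective θ hθ
  have hΘ : ∀ b, Θ (AdjoinRoot.of _ (AdjoinRoot.of _ b)) = (π.app U.1).hom b := fun b => (hθι b).trans (hof b)
  let H : Γ(Y, π ⁻¹ᵁ U.1) := Θ (AdjoinRoot.of _ h)
  let V : Y.affineOpens := ⟨Y.basicOpen H, (U.2.preimage π).basicOpen H⟩
  have hVU : V.1 ≤ π ⁻¹ᵁ U.1 := Y.basicOpen_le H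
  have hxU' : y ∈ π ⁻¹ᵁ U.1 := hxU
  have hyV : y ∈ V.1 := by
    have hty : ¬ IsUnit (Y.presheaf.germ (π ⁻¹ᵁ U.1) y hxU' ((π.app U.1).hom t)) := by
      rw [← Scheme.mem_basicOpen _ _ y hxU, ← π.preimage_basicOpen]
      intro h1
      have h2 := ((D j).coe_support_inter U).le ⟨hj, hxU⟩
      exact (Scheme.mem_zeroLocus_iff _ _ _).1 h2.1 t (by rw [hDj]; exact Ideal.mem_span_singleton_self _) h1
    refine (Scheme.mem_basicOpen _ _ y hxU').2 ?_
    obtain ⟨z, hz⟩ := Ideal.mem_span_singleton.1 hhw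
    have hH : H = Θ (AdjoinRoot.of _ w) + (π.app U.1).hom t * Θ (AdjoinRoot.of _ z) := by
      rw [← hΘ, ← map_mul, ← map_mul, ← map_add, ← map_add]
      exact congrArg (fun q => Θ (AdjoinRoot.of _ q)) (sub_eq_iff_eq_add'.1 hz)
    simp only [hH, map_add, map_mul]
    by_contra hn
    have hw' : IsUnit (Y.presheaf.germ (π ⁻¹ᵁ U.1) y hxU' (Θ (AdjoinRoot.of _ w))) :=
      ((hw.map (AdjoinRoot.of (Polynomial.X ^ e' - Polynomial.C (tC * w)))).map Θ).map (Y.presheaf.germ (π ⁻¹ᵁ U.1) y hxU').hom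
    refine hty (((IsLocalRing.isUnit_or_isUnit_of_isUnit_add (a := _ + _)
      (b := - (Y.presheaf.germ (π ⁻¹ᵁ U.1) y hxU' ((π.app U.1).hom t) *
        Y.presheaf.germ (π ⁻¹ᵁ U.1) y hxU' (Θ (AdjoinRoot.of _ z)))) (by rwa [add_neg_cancel_right])).resolve_left hn).neg |> fun h => ?_)
    rw [neg_neg] at h
    exact isUnit_of_mul_isUnit_left h
  let res' : Γ(Y, π ⁻¹ᵁ U.1) →+* Γ(Y, V.1) := (Y.presheaf.map (homOfLE hVU).op).hom
  letI : Algebra A' Γ(Y, V.1) := (res'.comp Θ.toRingHom).toAlgebra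
  haveI : IsLocalization.Away (AdjoinRoot.of _ h : A') Γ(Y, V.1) := by
    haveI := (U.2.preimage π).isLocalization_basicOpen H
    have h1 := (IsLocalization.isLocalization_iff_of_base_ringEquiv (Submonoid.powers H) Γ(Y, Y.basicOpen H) Θ.symm).1 inferInstance
    rw [Submonoid.map_powers] at h1
    convert h1 using 1
    all_goals first
      | exact (Θ.symm_apply_apply _).symm
      | exact Algebra.algebra_ext _ _ fun _ => rfl
  let ρ : MvPolynomial (Fin n) Γ(Spec (CommRingCat.of k), ⊤) →+* A' :=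
    (coordHom (k := Γ(Spec (CommRingCat.of k), ⊤)) jn e' (tC * w)).toRingHom
  let Ψ : MvPolynomial (Fin n) Γ(Spec (CommRingCat.of k), ⊤) →+* Γ(Y, V.1) := (algebraMap A' Γ(Y, V.1)).comp ρ
  have hΨC : ∀ c, Ψ (MvPolynomial.C c) = res' ((π.app U.1).hom (φ (MvPolynomial.C c))) := fun c => by
    show res' (Θ (coordHom jn e' (tC * w) (algebraMap Γ(Spec (CommRingCat.of k), ⊤) _ c))) = _
    rw [AlgHom.commutes, ← hΘ]
    rfl
  have hΨX : ∀ i, i ≠ jn → Ψ (MvPolynomial.X i) = res' ((π.app U.1).hom (φ (MvPolynomial.X i))) := fun i hi => by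
    show res' (Θ (coordHom jn e' (tC * w) (MvPolynomial.X i))) = _
    rw [coordHom, MvPolynomial.aeval_X, Function.update_of_ne hi, ← hΘ]
    rfl
  have hΨj : Ψ (MvPolynomial.X jn) ^ e' = res' ((π.app U.1).hom t) * res' (Θ (AdjoinRoot.of _ w)) := by
    show res' (Θ (coordHom jn e' (tC * w) (MvPolynomial.X jn))) ^ e' = _
    rw [coordHom, MvPolynomial.aeval_X, Function.update_self, ← map_pow, ← map_pow, Kum.root_pow, map_mul (AdjoinRoot.of _), map_mul Θ,
      map_mul res', ← hΘ]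
    rfl
  have hΨet : Ψ.Etale := by
    have h1 := hh Γ(Y, V.1)
    letI := Ψ.toAlgebra
    haveI : Algebra.FormallyEtale (MvPolynomial (Fin n) Γ(Spec (CommRingCat.of k), ⊤)) Γ(Y, V.1) := h1
    haveI : Algebra.FinitePresentation C A' := by
      haveI : Module.Finite C A' := Kum.finite he' _
      haveI : Module.Free C A' := Kum.free he' _
      haveI : Module.FinitePresentation C A' := Module.finitePresentation_of_projective _ _
      exact Algebra.FinitePresentation.of_finitePresentation C A'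
    haveI : Algebra.FinitePresentation Γ(Spec (CommRingCat.of k), ⊤) C :=
      Algebra.FinitePresentation.trans _ (MvPolynomial (Fin n) Γ(Spec (CommRingCat.of k), ⊤)) C
    haveI : Algebra.FinitePresentation Γ(Spec (CommRingCat.of k), ⊤) A' := Algebra.FinitePresentation.trans _ C A'
    letI : Algebra Γ(Spec (CommRingCat.of k), ⊤) Γ(Y, V.1) :=
      ((algebraMap A' Γ(Y, V.1)).comp (algebraMap Γ(Spec (CommRingCat.of k), ⊤) A')).toAlgebra
    haveI : IsScalarTower Γ(Spec (CommRingCat.of k), ⊤) A' Γ(Y, V.1) := IsScalarTower.of_algebraMap_eq fun _ => rfl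
    haveI : IsScalarTower Γ(Spec (CommRingCat.of k), ⊤) (MvPolynomial (Fin n) Γ(Spec (CommRingCat.of k), ⊤)) Γ(Y, V.1) :=
      IsScalarTower.of_algebraMap_eq fun c => by
        show algebraMap A' Γ(Y, V.1) _ = algebraMap A' Γ(Y, V.1) _
        exact congrArg _ ((coordHom jn e' (tC * w)).commutes c).symm
    haveI : Algebra.FinitePresentation A' Γ(Y, V.1) := IsLocalization.Away.finitePresentation (AdjoinRoot.of _ h : A')
    haveI : Algebra.FinitePresentation Γ(Spec (CommRingCat.of k), ⊤) Γ(Y, V.1) :=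
      Algebra.FinitePresentation.trans _ A' Γ(Y, V.1)
    haveI : Algebra.FinitePresentation (MvPolynomial (Fin n) Γ(Spec (CommRingCat.of k), ⊤)) Γ(Y, V.1) :=
      Algebra.FinitePresentation.of_restrict_scalars_finitePresentation Γ(Spec (CommRingCat.of k), ⊤) _ _
    exact RingHom.etale_algebraMap.2 ⟨inferInstance, inferInstance⟩
  refine ⟨V, n, Ψ, emb, hyV, hΨet, RingHom.ext fun c => ?_, hemb, fun i => ?_, fun i hi => ?_⟩
  · rw [RingHom.comp_apply, hΨC, ← RingHom.comp_apply (φ) MvPolynomial.C c, hφC]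
    show ((f.appLE ⊤ U.1 le_top) ≫ π.app U.1 ≫ Y.presheaf.map (homOfLE hVU).op).hom c = _
    rw [π.app_eq_appLE, π.appLE_map, Scheme.Hom.appLE_comp_appLE]
  · rw [radical_comap_ideal_le (hVU := hVU), hthr i, Ideal.map_span, Set.image_singleton, Ideal.map_span,
      Set.image_singleton]
    by_cases hij : i.1 = j
    · obtain rfl : i = ⟨j, hj⟩ := Subtype.ext hij
      show (Ideal.span {res' ((π.app U.1).hom t)}).radical = _
      rw [← Ideal.span_singleton_mul_right_unit (((hw.map (AdjoinRoot.of (Polynomial.X ^ e' - Polynomial.C (tC * w)))).map Θ).map res'),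
        ← hΨj, ← Ideal.span_singleton_pow, Ideal.radical_pow _ he'.ne']
      exact (isRadical_coord Ψ hΨet jn).radical
    · have hne : emb i ≠ jn := fun h => hij (congrArg Subtype.val (hemb h))
      show (Ideal.span {res' ((π.app U.1).hom (φ (MvPolynomial.X (emb i))))}).radical = _
      rw [← hΨX _ hne]
      exact (isRadical_coord Ψ hΨet (emb i)).radical
  · rw [radical_comap_ideal_le (hVU := hVU), hoff i hi, Ideal.map_top, Ideal.map_top, Ideal.radical_top]

theorem isNCD_radical_comap {k : Type u} [Field k] (f : X ⟶ Spec (CommRingCat.of k)) [Smooth f]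
    (hL : PicF.IsInvertible L) (hN : 0 < N) (hNk : (N : k) ≠ 0) {ζ : k} (hζ : IsPrimitiveRoot ζ N)
    (hnX : Pi1.IsNormalScheme X) {r : ℕ} (D : Fin r → X.IdealSheafData) (α : Fin r → ℕ) (hD : LogNCD.IsNCD D f)
    (hs : CycCov.IsZeroDiv (CohB1.tensorPow L N) s (CycCov.divIdeal D α))
    {R : CycCov.Root L N s π} (hR : CycCov.IsCover R)
    (hdisj : ∀ (x : X) (j j' : Fin r), 0 < α j → 0 < α j' → x ∈ (D j).support → x ∈ (D j').support → j = j') :
    LogNCD.IsNCD (fun j : Fin r => ((D j).comap π).radical) (π ≫ f) := by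
  intro y _
  obtain ⟨V, n, ψ, emb, hyV, hψ, hC, hemb, hthr, hoff⟩ :=
    exists_local_coord f hL hN hNk hζ hnX D α hD hs hR y (hdisj (π y))
  have hsupp : ∀ i, y ∈ (((D i).comap π).radical).support ↔ π y ∈ (D i).support := fun i => by
    rw [Scheme.IdealSheafData.support_radical, Scheme.IdealSheafData.support_comap]
    rfl
  refine ⟨V.1, hyV, n, fun i => V.1.topIso.inv (ψ (MvPolynomial.X i.down)),
    fun i => emb ⟨i.1, (hsupp i.1).1 i.2⟩, fun a b h => Subtype.ext ((Subtype.mk.injEq ..).mp (hemb h)),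
    etale_homOfVector (π ≫ f) V.2 ψ hψ hC, fun i U h => ?_, fun i hi U h => ?_⟩
  · rw [← ((D i.1).comap π).radical.map_ideal (U := U) (V := V) h, hthr ⟨i.1, (hsupp i.1).1 i.2⟩, Ideal.map_span,
      Set.image_singleton, LogNCD.sectOn_apply]
    congr 2
    exact congrArg (Y.presheaf.map (homOfLE h).op) (Iso.inv_hom_id_apply V.1.topIso _).symm
  · rw [← ((D i).comap π).radical.map_ideal (U := U) (V := V) h, hoff i (fun h' => hi ((hsupp i).2 h')), Ideal.map_top]

end Groth.Agent.CycCovRam
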