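import Groth.Agent.CycCovRam.Conj

/-! # Ramification of normalised Kummer algebras along the radicand -/

set_option autoImplicit false

universe u

open Polynomial

noncomputable section

namespace Groth.Agent.CycCovRam

open Groth.Agent.CycPic

variable {B : Type u} [CommRing B] [IsDomain B]

/-- A Kummer algebra with invertible radicand is reduced modulo a radical element. -/
theorem mem_span_of_pow_mem {g : ℕ} (hg : 0 < g) (hgu : IsUnit (g : B)) {u t z : B} (hu : IsUnit u)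
    (ht : (Ideal.span {t}).IsRadical) (hz : IsPrimitiveRoot z g) {q : Kum B g u} {M : ℕ}
    (hq : q ^ M ∈ Ideal.span {AdjoinRoot.of (X ^ g - C u) t}) : q ∈ Ideal.span {AdjoinRoot.of (X ^ g - C u) t} := by
  let I := Ideal.span {AdjoinRoot.of (X ^ g - C u) t}
  have key : ∀ i : Fin g, Kum.cf hg q i ∈ Ideal.span {t} := by
    intro i
    have h1 : AdjoinRoot.of (X ^ g - C u) ((g : B) * Kum.cf hg q i) * AdjoinRoot.root _ ^ (i : ℕ) ∈ I.radical := by
      rw [← sum_conj hz, Kum.mk_cf]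
      refine Ideal.sum_mem _ fun j _ => Ideal.mul_mem_left _ _ ⟨M, ?_⟩
      rw [← map_pow]
      obtain ⟨r, hr⟩ := Ideal.mem_span_singleton.1 hq
      rw [hr, map_mul, conj_of]
      exact Ideal.mul_mem_right _ _ (Ideal.mem_span_singleton_self _)
    obtain ⟨M', h2⟩ := I.radical.pow_mem_of_mem h1 g hg
    rw [mul_pow, ← map_pow, pow_right_comm, Kum.root_pow, ← map_pow, ← map_mul, ← map_pow] at h2
    obtain ⟨r, hr⟩ := Ideal.mem_span_singleton.1 h2
    have h3 := congrArg (fun x => Kum.cf hg x ⟨0, hg⟩) hr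
    have hof : ∀ b : B, AdjoinRoot.of (X ^ g - C u) b = Kum.mk u (fun k => if k = ⟨0, hg⟩ then b else 0) := by
      intro b
      rw [Kum.mk, Finset.sum_eq_single ⟨0, hg⟩]
      · simp
      · intro k _ hk; simp [hk]
      · simp
    simp only [Kum.cf_of_mul] at h3
    rw [hof, Kum.cf_mk, if_pos rfl] at h3
    have h4 : (((g : B) * Kum.cf hg q i) ^ g * u ^ (i : ℕ)) ∈ Ideal.span {t} :=
      ht ⟨M', Ideal.mem_span_singleton.2 ⟨_, h3⟩⟩
    rw [Ideal.mul_unit_mem_iff_mem _ (hu.pow _)] at h4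
    have h5 : (g : B) * Kum.cf hg q i ∈ Ideal.span {t} := ht ⟨g, h4⟩
    rwa [Ideal.unit_mul_mem_iff_mem _ hgu] at h5
  rw [← Kum.mk_cf hg q]
  refine Ideal.sum_mem _ fun k _ => Ideal.mul_mem_right _ _ ?_
  obtain ⟨b, hb⟩ := Ideal.mem_span_singleton.1 (key k)
  rw [hb, map_mul]
  exact Ideal.mul_mem_right _ _ (Ideal.mem_span_singleton_self _)

variable [IsIntegrallyClosed B]

theorem span_eq_radical_pow {N α : ℕ} {u t ζ : B} {A : Type u} [CommRing A]
    (hN : 0 < N) (hNu : IsUnit (N : B)) (hu : IsUnit u) (ht0 : t ≠ 0) (ht : (Ideal.span {t}).IsRadical)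
    (hζ : IsPrimitiveRoot ζ N) (ψ : Kum B N (u * t ^ α) →+* A) (hinj : Function.Injective ψ)
    (hint : ∀ c, (ψ.comp (AdjoinRoot.of _)).IsIntegralElem c)
    (htf : ∀ (b : B) (c : A), b ≠ 0 → ψ (AdjoinRoot.of _ b) * c = 0 → c = 0)
    (hfrac : ∀ c, ∃ (b : B) (p : Kum B N (u * t ^ α)), b ≠ 0 ∧ ψ (AdjoinRoot.of _ b) * c = ψ p)
    (hdiv : ∀ (b y : A) (n : ℕ), 0 < n → b ^ n ∣ y ^ n → b ∣ y) :
    Ideal.span {ψ (AdjoinRoot.of _ t)} = (Ideal.span {ψ (AdjoinRoot.of _ t)}).radical ^ (N / Nat.gcd N α) := by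
  let g := Nat.gcd N α
  have hg : 0 < g := Nat.gcd_pos_of_pos_left α hN
  obtain ⟨e, hge⟩ := Nat.gcd_dvd_left N α
  obtain ⟨α', hα'⟩ := Nat.gcd_dvd_right N α
  replace hge : N = g * e := hge
  replace hα' : α = g * α' := hα'
  have he : 0 < e := Nat.pos_of_mul_pos_left (hge ▸ hN)
  have hcop : Nat.Coprime e α' := by
    have h := Nat.coprime_div_gcd_div_gcd (m := N) (n := α) hg
    change Nat.Coprime (N / g) (α / g) at h
    rwa [show N / g = e by rw [hge, Nat.mul_div_cancel_left _ hg],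
      show α / g = α' by rw [hα', Nat.mul_div_cancel_left _ hg]] at h
  rw [show N / Nat.gcd N α = e from by rw [show Nat.gcd N α = g from rfl, hge, Nat.mul_div_cancel_left _ hg]]
  let ι : B →+* A := ψ.comp (AdjoinRoot.of _)
  let T : A := ψ (AdjoinRoot.root _)
  have hT : T ^ N = ι (u * t ^ α) := by rw [← map_pow, Kum.root_pow]; rfl
  have hcan : ∀ (b : B) (x y : A), b ≠ 0 → ι b * x = ι b * y → x = y := fun b x y hb h =>
    sub_eq_zero.1 (htf b _ hb (by rw [mul_sub, sub_eq_zero]; exact h))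
  -- the monomials
  have hE : ∀ i : ℕ, ∃ E, T ^ i = ι (t ^ (i * α / N)) * E ∧ E ^ N = ι (u ^ i * t ^ (i * α % N)) := by
    intro i
    have h1 : (T ^ i) ^ N = ι (t ^ (i * α / N)) ^ N * ι (u ^ i * t ^ (i * α % N)) := by
      rw [pow_right_comm, hT, ← map_pow, ← map_pow, ← map_mul, mul_pow, ← pow_mul, ← pow_mul, mul_left_comm,
        ← pow_add, mul_comm (i * α / N) N, Nat.div_add_mod, mul_comm α i]
    obtain ⟨E, hE⟩ := hdiv _ _ N hN ⟨_, h1⟩
    refine ⟨E, hE, ?_⟩
    rw [hE, mul_pow, ← map_pow] at h1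
    exact hcan _ _ _ (pow_ne_zero _ (pow_ne_zero _ ht0)) h1
  choose E hE hEN using hE
  let Ξ : (Fin N → B) → A := fun z => ∑ i, ι (z i) * E i
  have hΞmul : ∀ z : Fin N → B, ι (t ^ α) * Ξ z = ψ (Kum.mk _ fun i : Fin N => z i * t ^ (α - (i : ℕ) * α / N)) := by
    intro z
    simp only [Ξ, Kum.mk, map_sum, Finset.mul_sum]
    refine Finset.sum_congr rfl fun i _ => ?_
    have hle : (i : ℕ) * α / N ≤ α := Nat.div_le_of_le_mul (Nat.mul_le_mul_right α i.2.le)
    rw [map_mul ψ, map_pow ψ]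
    show _ = ι (z i * t ^ _) * T ^ (i : ℕ)
    rw [hE, map_mul, ← mul_assoc, ← mul_assoc, mul_comm (ι (t ^ α)), mul_assoc (ι (z i)) (ι (t ^ (α - _))), ← map_mul ι (t ^ (α - _)),
      ← pow_add, Nat.sub_add_cancel hle]
  have hΞinj : ∀ z z', Ξ z = Ξ z' → z = z' := by
    intro z z' h
    have h1 := hinj ((hΞmul z).symm.trans ((congrArg (ι (t ^ α) * ·) h).trans (hΞmul z')))
    funext i
    have h2 := congrArg (fun x => Kum.cf hN x i) h1
    simp only [Kum.cf_mk] at h2
    exact mul_right_cancel₀ (pow_ne_zero _ ht0) h2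
  have hΞsurj : ∀ h, ∃ z, Ξ z = h := by
    intro x
    obtain ⟨b, p, hb, hbp⟩ := hfrac x
    obtain ⟨P, hP, hPx⟩ := hint x
    let K := FractionRing B
    let a' : K := algebraMap B K (u * t ^ α)
    have h0 : eval₂ (AdjoinRoot.of _) p (P.scaleRoots b) = 0 := by
      refine hinj ?_
      rw [hom_eval₂, map_zero, ← hbp, ← RingHom.comp_apply, scaleRoots_eval₂_mul, hPx, mul_zero]
    let Φ : Kum B N (u * t ^ α) →+* Kum K N a' := Kum.lift ((AdjoinRoot.of _).comp (algebraMap B K)) (AdjoinRoot.root _)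
      (Kum.root_pow N a')
    have hΦ : ∀ r, Φ (AdjoinRoot.of _ r) = AdjoinRoot.of _ (algebraMap B K r) := fun r => Kum.lift_of _ _ _ _
    have hb' : algebraMap B K b ≠ 0 := fun h => hb (IsFractionRing.injective B K (h.trans (map_zero _).symm))
    let y : Kum K N a' := AdjoinRoot.of _ (algebraMap B K b)⁻¹ * Φ p
    have hy : IsIntegral B y := by
      refine ⟨P, hP, ?_⟩
      have h1 := congrArg Φ h0
      have hcomp : Φ.comp (AdjoinRoot.of _) = algebraMap B (Kum K N a') := RingHom.ext hΦ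
      rw [hom_eval₂, map_zero, hcomp] at h1
      have h2 : Φ p = algebraMap B (Kum K N a') b * y := by
        show _ = AdjoinRoot.of _ (algebraMap B K b) * (AdjoinRoot.of _ (algebraMap B K b)⁻¹ * Φ p)
        rw [← mul_assoc, ← map_mul, mul_inv_cancel₀ hb', map_one, one_mul]
      rw [h2, scaleRoots_eval₂_mul] at h1
      refine (IsUnit.mul_right_eq_zero ?_).1 h1
      exact (((isUnit_iff_ne_zero.2 hb').map (AdjoinRoot.of (X ^ N - C a'))).pow _)
    have hpc : y = Kum.mk a' (fun k => (algebraMap B K b)⁻¹ * algebraMap B K (Kum.cf hN p k)) := by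
      show AdjoinRoot.of _ (algebraMap B K b)⁻¹ * Φ p = _
      conv_lhs => rw [← Kum.mk_cf hN p]
      rw [Kum.mk, Kum.mk, map_sum, Finset.mul_sum]
      refine Finset.sum_congr rfl fun k _ => ?_
      rw [map_mul, map_pow, hΦ, Kum.lift_root, map_mul, mul_assoc]
    rw [hpc] at hy
    choose z hz using fun k => coeff_mem_range hN hNu hu ht0 ht hζ _ hy k
    have hz' : ∀ k : Fin N, b * z k = Kum.cf hN p k * t ^ ((k : ℕ) * α / N) := fun k =>
      IsFractionRing.injective B K (by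
        rw [map_mul, hz k, map_mul, map_pow, ← mul_assoc, ← mul_assoc, mul_inv_cancel₀ hb', one_mul])
    refine ⟨z, hcan b _ _ hb ?_⟩
    show _ = ψ (AdjoinRoot.of _ b) * x
    rw [hbp]
    conv_rhs => rw [← Kum.mk_cf hN p, Kum.mk, map_sum]
    simp only [Ξ, Finset.mul_sum]
    refine Finset.sum_congr rfl fun k _ => ?_
    rw [map_mul ψ, map_pow ψ]
    show _ = ι (Kum.cf hN p k) * T ^ (k : ℕ)
    rw [hE, ← mul_assoc, ← mul_assoc, ← map_mul, ← map_mul, hz' k]
  -- the uniformiser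
  obtain ⟨S, w, hw, hS⟩ : ∃ S w, IsUnit w ∧ S ^ e = ι t * w := by
    rcases Nat.eq_zero_or_pos α' with h0 | h0
    · have he1 : e = 1 := by rw [h0] at hcop; exact (Nat.coprime_zero_right e).1 hcop
      exact ⟨ι t, 1, isUnit_one, by rw [he1, pow_one, mul_one]⟩
    obtain ⟨c, k, hck⟩ : ∃ c k, c * α = g + k * N := by
      rcases Nat.lt_or_ge 1 e with h1 | h1
      · obtain ⟨c, -, hc⟩ := Nat.exists_mul_mod_eq_one_of_coprime hcop.symm h1
        refine ⟨c, α' * c / e, ?_⟩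
        have h2 := Nat.div_add_mod (α' * c) e
        rw [hc] at h2
        calc c * α = g * (α' * c) := by rw [hα']; ring
          _ = g * (e * (α' * c / e) + 1) := by rw [h2]
          _ = _ := by rw [hge]; ring
      · obtain rfl : e = 1 := le_antisymm h1 he
        obtain ⟨a, rfl⟩ : ∃ a, α' = a + 1 := ⟨α' - 1, (Nat.sub_add_cancel h0).symm⟩
        exact ⟨1, a, by rw [hα', hge]; ring⟩
    have h1 : (T ^ c) ^ N = ι (t ^ k) ^ N * ι (u ^ c * t ^ g) := by
      rw [pow_right_comm, hT, ← map_pow, ← map_pow, ← map_mul, mul_pow, ← pow_mul, ← pow_mul, mul_left_comm,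
        ← pow_add, mul_comm α c, hck, add_comm]
    obtain ⟨S, hS⟩ := hdiv _ _ N hN ⟨_, h1⟩
    rw [hS, mul_pow, ← map_pow] at h1
    have h2 : (S ^ e) ^ g = ι t ^ g * ι (u ^ c) := by
      rw [← pow_mul, mul_comm e g, ← hge, hcan _ _ _ (pow_ne_zero _ (pow_ne_zero _ ht0)) h1, map_mul, map_pow,
        map_pow, mul_comm]
    obtain ⟨w, hw⟩ := hdiv _ _ g hg ⟨_, h2⟩
    refine ⟨S, w, ?_, hw⟩
    rw [hw, mul_pow, ← map_pow] at h2
    have h3 := hcan _ _ _ (pow_ne_zero _ ht0) h2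
    exact (isUnit_pow_iff hg.ne').1 (h3 ▸ (hu.pow c).map ι)
  have hSN : S ^ N = (ι t * w) ^ g := by rw [← hS, ← pow_mul, mul_comm e g, ← hge]
  have hES : ∀ i, i * α % N ≠ 0 → S ∣ E i := fun i hi => by
    refine hdiv _ _ N hN ?_
    rw [hSN, hEN, mul_pow, map_mul, map_pow ι t]
    have hgr : g ∣ i * α % N := (Nat.dvd_mod_iff (Nat.gcd_dvd_left N α)).2 ((Nat.gcd_dvd_right N α).mul_left i)
    exact ((hw.pow g).mul_right_dvd.2 (pow_dvd_pow _ (Nat.le_of_dvd (Nat.pos_of_ne_zero hi) hgr))).mul_left _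
  -- the unramified part
  have hdiv' : ∀ j, e * j * α / N = α' * j ∧ e * j * α % N = 0 := fun j => by
    have h1 : e * j * α = N * (α' * j) := by rw [hge, hα']; ring
    exact ⟨by rw [h1, Nat.mul_div_cancel_left _ hN], by rw [h1, Nat.mul_mod_right]⟩
  let W := E (e * 1)
  have hWj : ∀ j, W ^ j = E (e * j) := fun j => by
    refine hcan (t ^ (α' * j)) _ _ (pow_ne_zero _ ht0) ?_
    have h1 := hE (e * j)
    rw [(hdiv' j).1] at h1
    rw [← h1, pow_mul, map_pow, ← mul_pow, pow_mul T, ← map_pow]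
    congr 1
    have h2 := hE (e * 1)
    rw [(hdiv' 1).1] at h2
    simp only [mul_one] at h2
    simpa only [W, mul_one, T, map_pow] using h2.symm
  have hW : W ^ g = ι u := by
    refine hcan (t ^ α) _ _ (pow_ne_zero _ ht0) ?_
    have h1 := hE (e * g)
    rw [(hdiv' g).1] at h1
    rw [hWj, ← map_mul, mul_comm (t ^ α), ← hT, hge, mul_comm g e, h1, hα', mul_comm α' g]
  let χ : Kum B g u →+* A := Kum.lift ι W hW
  let emb : Fin g → Fin N := fun j => ⟨e * j, by rw [hge, mul_comm g e]; exact Nat.mul_lt_mul_of_pos_left j.2 he⟩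
  have hemb : Function.Injective emb := fun a b h => Fin.ext (Nat.eq_of_mul_eq_mul_left he (congrArg Fin.val h))
  have hrange : ∀ i : Fin N, (i : ℕ) * α % N = 0 → i ∈ Set.range emb := fun i hi => by
    obtain ⟨q, hq⟩ := Nat.dvd_of_mod_eq_zero hi
    have h1 : e ∣ (i : ℕ) * α' := ⟨q, Nat.eq_of_mul_eq_mul_left hg (by
      calc g * ((i : ℕ) * α') = (i : ℕ) * α := by rw [hα']; ring
        _ = g * (e * q) := by rw [hq, hge]; ring)⟩
    obtain ⟨j, hj⟩ := hcop.dvd_of_dvd_mul_right h1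
    exact ⟨⟨j, Nat.lt_of_mul_lt_mul_left (a := e) (by rw [← hj, mul_comm e g, ← hge]; exact i.2)⟩, Fin.ext hj.symm⟩
  have hχ : ∀ q : Fin g → B, χ (Kum.mk u q) = Ξ (Function.extend emb q 0) := fun q => by
    rw [Kum.mk, map_sum]
    refine Fintype.sum_of_injective emb hemb _ _ (fun i hi => ?_) (fun j => ?_)
    · rw [Function.extend_apply' _ _ _ hi, Pi.zero_apply, map_zero, zero_mul]
    · rw [hemb.extend_apply, map_mul, map_pow, Kum.lift_of, Kum.lift_root, hWj]
  have hkey : ∀ q, χ q ∈ Ideal.span {ι t} → q ∈ Ideal.span {AdjoinRoot.of (X ^ g - C u) t} := fun q hq => by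
    obtain ⟨y, hy⟩ := Ideal.mem_span_singleton.1 hq
    obtain ⟨z, rfl⟩ := hΞsurj y
    rw [← Kum.mk_cf hg q, hχ] at hy
    have h1 : Function.extend emb (Kum.cf hg q) 0 = fun i => t * z i := hΞinj _ _ (hy.trans (by
      simp only [Ξ, Finset.mul_sum, map_mul, mul_assoc]))
    rw [← Kum.mk_cf hg q]
    refine Ideal.sum_mem _ fun j _ => Ideal.mul_mem_right _ _ ?_
    rw [← hemb.extend_apply (Kum.cf hg q) 0 j, h1, map_mul]
    exact Ideal.mul_mem_right _ _ (Ideal.mem_span_singleton_self _)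
  have hSt : Ideal.span {ι t} ≤ Ideal.span {S} := Ideal.span_singleton_le_span_singleton.2
    ((hw.dvd_mul_right).1 (hS ▸ dvd_pow_self S he.ne'))
  have hrad : (Ideal.span {ι t}).radical = Ideal.span {S} := by
    refine le_antisymm ?_ ((Ideal.span_singleton_le_iff_mem _).2 ⟨e, hS ▸ Ideal.mul_mem_right _ _ (Ideal.mem_span_singleton_self _)⟩)
    rintro h ⟨n, hn⟩
    obtain ⟨z, rfl⟩ := hΞsurj h
    have hrest : Ξ z - χ (Kum.mk u (z ∘ emb)) ∈ Ideal.span {S} := by
      rw [hχ]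
      simp only [Ξ, ← Finset.sum_sub_distrib, ← sub_mul, ← map_sub]
      refine Ideal.sum_mem _ fun i _ => ?_
      by_cases hi : i ∈ Set.range emb
      · obtain ⟨j, rfl⟩ := hi
        rw [hemb.extend_apply, Function.comp_apply, sub_self, map_zero, zero_mul]
        exact zero_mem _
      · exact Ideal.mul_mem_left _ _ (Ideal.mem_span_singleton.2 (hES i (fun h => hi (hrange i h))))
    have h0n : χ (Kum.mk u (z ∘ emb)) ^ n ∈ Ideal.span {S} := by
      rw [← Ideal.Quotient.eq_zero_iff_mem, map_pow, ← Ideal.Quotient.eq.2 hrest, ← map_pow,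
        Ideal.Quotient.eq_zero_iff_mem]
      exact hSt hn
    have h0 : χ (Kum.mk u (z ∘ emb)) ∈ Ideal.span {S} := by
      obtain ⟨y, hy⟩ := Ideal.mem_span_singleton.1 h0n
      have h2 := mem_span_of_pow_mem hg
        (isUnit_of_dvd_unit (Nat.cast_dvd_cast ⟨e, hge⟩) hNu) hu ht (hζ.pow hN (by rw [hge, mul_comm]))
        (hkey (Kum.mk u (z ∘ emb) ^ (n * e)) (by
          rw [map_pow, pow_mul, hy, mul_pow, hS, mul_assoc]
          exact Ideal.mul_mem_right _ _ (Ideal.mem_span_singleton_self _)))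
      obtain ⟨r, hr⟩ := Ideal.mem_span_singleton.1 h2
      rw [hr, map_mul, Kum.lift_of]
      exact hSt (Ideal.mul_mem_right _ _ (Ideal.mem_span_singleton_self _))
    simpa using add_mem hrest h0
  change Ideal.span {ι t} = (Ideal.span {ι t}).radical ^ e
  rw [hrad, Ideal.span_singleton_pow, hS, Ideal.span_singleton_mul_right_unit hw]

end Groth.Agent.CycCovRam
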