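import Groth.Agent.CycPic.Kum
import Mathlib.RingTheory.Etale.Basic
import Mathlib.RingTheory.Smooth.Basic

/-! # Kummer algebras along a coordinate are formally smooth -/

set_option autoImplicit false

universe u

open Polynomial

noncomputable section

namespace Groth.Agent.CycCovRam

open Groth.Agent.CycPic

lemma add_pow_sq_zero {R : Type u} [CommRing R] (s ε : R) (hε : ε * ε = 0) :
    ∀ m : ℕ, (s + ε) ^ (m + 1) = s ^ (m + 1) + ((m + 1 : ℕ) : R) * s ^ m * ε
  | 0 => by simp
  | m + 1 => by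
    rw [pow_succ, add_pow_sq_zero s ε hε m]
    push_cast
    linear_combination ((m : R) + 1) * s ^ m * hε

theorem formallySmooth_kum {k C : Type u} [CommRing k] {n : ℕ} [CommRing C]
    [Algebra (MvPolynomial (Fin n) k) C] [Algebra k C] [IsScalarTower k (MvPolynomial (Fin n) k) C]
    [Algebra.FormallyEtale (MvPolynomial (Fin n) k) C] (j : Fin n) {e : ℕ} (he : 0 < e) (heu : IsUnit (e : C))
    {v : C} (hv : IsUnit v) :
    Algebra.FormallySmooth k (Kum C e (algebraMap (MvPolynomial (Fin n) k) C (MvPolynomial.X j) * v)) := by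
  classical
  refine Algebra.FormallySmooth.of_comp_surjective fun R _ _ I hI f => ?_
  let P := MvPolynomial (Fin n) k
  let A := Kum C e (algebraMap P C (MvPolynomial.X j) * v)
  let g : C →ₐ[k] R ⧸ I := f.comp (IsScalarTower.toAlgHom k C A)
  have hsq : ∀ a b : R, a ∈ I → b ∈ I → a * b = 0 := fun a b ha hb => by
    have h := Ideal.mul_mem_mul ha hb
    rwa [← sq, hI, Ideal.mem_bot] at h
  -- lifts with prescribed coordinates
  have hlift : ∀ p : Fin n → R, (∀ i, Ideal.Quotient.mk I (p i) = g (algebraMap P C (MvPolynomial.X i))) →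
      ∃ β : C →ₐ[k] R, (∀ c, Ideal.Quotient.mk I (β c) = g c) ∧ ∀ i, β (algebraMap P C (MvPolynomial.X i)) = p i := by
    intro p hp
    letI : Algebra P R := (MvPolynomial.aeval p : P →ₐ[k] R).toRingHom.toAlgebra
    haveI : IsScalarTower k P R := IsScalarTower.of_algebraMap_eq fun c =>
      ((MvPolynomial.aeval p : P →ₐ[k] R).commutes c).symm
    have hg : (g.comp (IsScalarTower.toAlgHom k P C)) = (Ideal.Quotient.mkₐ k I).comp (MvPolynomial.aeval p) :=
      MvPolynomial.algHom_ext fun i => (hp i).symm.trans (congrArg (Ideal.Quotient.mk I) (MvPolynomial.aeval_X p i).symm)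
    let g' : C →ₐ[P] R ⧸ I := { g with commutes' := fun q => DFunLike.congr_fun hg q }
    obtain ⟨β, hβ⟩ := Algebra.FormallySmooth.comp_surjective P C I hI g'
    refine ⟨β.restrictScalars k, fun c => DFunLike.congr_fun hβ c, fun i => ?_⟩
    exact (β.commutes (MvPolynomial.X i)).trans (MvPolynomial.aeval_X p i)
  choose p hp using fun i => Ideal.Quotient.mk_surjective (g (algebraMap P C (MvPolynomial.X i)))
  obtain ⟨β, hβ, hβX⟩ := hlift p hp
  obtain ⟨s, hs⟩ := Ideal.Quotient.mk_surjective (f (AdjoinRoot.root _))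
  obtain ⟨w, hw⟩ := (hv.map β.toRingHom).exists_left_inv
  replace hw : w * β v = 1 := hw
  obtain ⟨einv, heinv⟩ := (heu.map β.toRingHom).exists_left_inv
  rw [map_natCast] at heinv
  let F := s ^ e - β (algebraMap P C (MvPolynomial.X j)) * β v
  have hF : F ∈ I := by
    rw [← Ideal.Quotient.eq_zero_iff_mem, map_sub, map_pow (Ideal.Quotient.mk I), hs, map_mul (Ideal.Quotient.mk I), hβ, hβ, sub_eq_zero, ← map_pow f, ← map_mul g]
    exact congrArg f (Kum.root_pow _ _)
  let δ := F * w
  have hδ : δ ∈ I := I.mul_mem_right _ hF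
  obtain ⟨β', hβ', hβ'X⟩ := hlift (Function.update p j (p j + δ)) fun i => by
    rcases eq_or_ne i j with rfl | hij
    · rw [Function.update_self, map_add, Ideal.Quotient.eq_zero_iff_mem.2 hδ, add_zero, hp]
    · rw [Function.update_of_ne hij, hp]
  let Δ := β' v - β v
  have hΔ : Δ ∈ I := by rw [← Ideal.Quotient.eq_zero_iff_mem, map_sub, hβ', hβ, sub_self]
  let ε := s * w * Δ * einv
  have hε : ε ∈ I := I.mul_mem_right _ (I.mul_mem_left _ hΔ)
  obtain ⟨m, rfl⟩ : ∃ m, e = m + 1 := ⟨e - 1, by omega⟩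
  have key : (s + ε) ^ (m + 1) = β' (algebraMap P C (MvPolynomial.X j) * v) := by
    rw [add_pow_sq_zero s ε (hsq ε ε hε hε), map_mul, hβ'X, Function.update_self, ← hβX j,
      (show β' v = β v + Δ by ring)]
    push_cast at heinv ⊢
    linear_combination (s ^ (m + 1) * w * Δ) * heinv +
      (β (algebraMap P C (MvPolynomial.X j)) * Δ - F) * hw
  let Φ : A →+* R := Kum.lift β'.toRingHom (s + ε) key
  have hcomm : ∀ c, Φ (algebraMap k A c) = algebraMap k R c := fun c => by
    rw [IsScalarTower.algebraMap_apply k C A]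
    exact (Kum.lift_of _ _ _ _).trans (β'.commutes c)
  let Φ' : A →ₐ[k] R := { Φ with commutes' := hcomm }
  refine ⟨Φ', AlgHom.coe_ringHom_injective (AdjoinRoot.ringHom_ext (RingHom.ext fun c => ?_) ?_)⟩
  · show Ideal.Quotient.mk I (Φ (AdjoinRoot.of _ c)) = f (AdjoinRoot.of _ c)
    rw [Kum.lift_of]; exact hβ' c
  · show Ideal.Quotient.mk I (Φ (AdjoinRoot.root _)) = f (AdjoinRoot.root _)
    rw [Kum.lift_root, map_add, Ideal.Quotient.eq_zero_iff_mem.2 hε, add_zero, hs]

end Groth.Agent.CycCovRam
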