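import Groth.Agent.CycCovRam.Conj
import Mathlib.LinearAlgebra.Matrix.InvariantBasisNumber

/-! # The normalised Kummer algebra along a coordinate -/

set_option autoImplicit false

universe u

open Polynomial

noncomputable section

namespace Groth.Agent.CycCovRam

open Groth.Agent.CycPic

variable {B : Type u} [CommRing B] [IsDomain B] [IsIntegrallyClosed B]

theorem exists_structure {N α : ℕ} {u t ζ : B} {A : Type u} [CommRing A]
    (hN : 0 < N) (hα : 0 < α) (hNu : IsUnit (N : B)) (hu : IsUnit u) (ht0 : t ≠ 0) (ht : (Ideal.span {t}).IsRadical)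
    (hζ : IsPrimitiveRoot ζ N) (ψ : Kum B N (u * t ^ α) →+* A) (hinj : Function.Injective ψ)
    (hint : ∀ c, (ψ.comp (AdjoinRoot.of _)).IsIntegralElem c)
    (htf : ∀ (b : B) (c : A), b ≠ 0 → ψ (AdjoinRoot.of _ b) * c = 0 → c = 0)
    (hfrac : ∀ c, ∃ (b : B) (p : Kum B N (u * t ^ α)), b ≠ 0 ∧ ψ (AdjoinRoot.of _ b) * c = ψ p)
    (hdiv : ∀ (b y : A) (n : ℕ), 0 < n → b ^ n ∣ y ^ n → b ∣ y) :
    ∃ (e : ℕ) (w : Kum B (Nat.gcd N α) u) (θ : Kum (Kum B (Nat.gcd N α) u) e (AdjoinRoot.of _ t * w) →+* A),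
      0 < e ∧ e ∣ N ∧ IsUnit w ∧ Function.Bijective θ ∧
      ∀ b, θ (AdjoinRoot.of _ (AdjoinRoot.of _ b)) = ψ (AdjoinRoot.of _ b) := by
  let g := Nat.gcd N α
  have hg : 0 < g := Nat.gcd_pos_of_pos_left α hN
  obtain ⟨e, hge⟩ := Nat.gcd_dvd_left N α
  obtain ⟨α', hα'⟩ := Nat.gcd_dvd_right N α
  replace hge : N = g * e := hge
  replace hα' : α = g * α' := hα'
  have he : 0 < e := Nat.pos_of_mul_pos_left (hge ▸ hN)
  have hcop : Nat.Coprime e α' := by
    have h := Nat.coprime_div_gcd_div_gcd (m := N) (n := α) hg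
    change Nat.Coprime (N / g) (α / g) at h
    rwa [show N / g = e by rw [hge, Nat.mul_div_cancel_left _ hg],
      show α / g = α' by rw [hα', Nat.mul_div_cancel_left _ hg]] at h
  let ι : B →+* A := ψ.comp (AdjoinRoot.of _)
  let T : A := ψ (AdjoinRoot.root _)
  have hT : T ^ N = ι (u * t ^ α) := by rw [← map_pow, Kum.root_pow]; rfl
  have hcan : ∀ (b : B) (x y : A), b ≠ 0 → ι b * x = ι b * y → x = y := fun b x y hb h =>
    sub_eq_zero.1 (htf b _ hb (by rw [mul_sub, sub_eq_zero]; exact h))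
  -- the monomials
  have hE : ∀ i : ℕ, ∃ E, T ^ i = ι (t ^ (i * α / N)) * E ∧ E ^ N = ι (u ^ i * t ^ (i * α % N)) := by
    intro i
    have h1 : (T ^ i) ^ N = ι (t ^ (i * α / N)) ^ N * ι (u ^ i * t ^ (i * α % N)) := by
      rw [pow_right_comm, hT, ← map_pow, ← map_pow, ← map_mul, mul_pow, ← pow_mul, ← pow_mul, mul_left_comm,
        ← pow_add, mul_comm (i * α / N) N, Nat.div_add_mod, mul_comm α i]
    obtain ⟨E, hE⟩ := hdiv _ _ N hN ⟨_, h1⟩
    refine ⟨E, hE, ?_⟩
    rw [hE, mul_pow, ← map_pow] at h1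
    exact hcan _ _ _ (pow_ne_zero _ (pow_ne_zero _ ht0)) h1
  choose E hE hEN using hE
  let Ξ : (Fin N → B) → A := fun z => ∑ i, ι (z i) * E i
  have hΞmul : ∀ z : Fin N → B, ι (t ^ α) * Ξ z = ψ (Kum.mk _ fun i : Fin N => z i * t ^ (α - (i : ℕ) * α / N)) := by
    intro z
    simp only [Ξ, Kum.mk, map_sum, Finset.mul_sum]
    refine Finset.sum_congr rfl fun i _ => ?_
    have hle : (i : ℕ) * α / N ≤ α := Nat.div_le_of_le_mul (Nat.mul_le_mul_right α i.2.le)
    rw [map_mul ψ, map_pow ψ]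
    show _ = ι (z i * t ^ _) * T ^ (i : ℕ)
    rw [hE, map_mul, ← mul_assoc, ← mul_assoc, mul_comm (ι (t ^ α)), mul_assoc (ι (z i)) (ι (t ^ (α - _))), ← map_mul ι (t ^ (α - _)),
      ← pow_add, Nat.sub_add_cancel hle]
  have hΞinj : ∀ z z', Ξ z = Ξ z' → z = z' := by
    intro z z' h
    have h1 := hinj ((hΞmul z).symm.trans ((congrArg (ι (t ^ α) * ·) h).trans (hΞmul z')))
    funext i
    have h2 := congrArg (fun x => Kum.cf hN x i) h1
    simp only [Kum.cf_mk] at h2
    exact mul_right_cancel₀ (pow_ne_zero _ ht0) h2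
  have hΞsurj : ∀ h, ∃ z, Ξ z = h := by
    intro x
    obtain ⟨b, p, hb, hbp⟩ := hfrac x
    obtain ⟨P, hP, hPx⟩ := hint x
    let K := FractionRing B
    let a' : K := algebraMap B K (u * t ^ α)
    have h0 : eval₂ (AdjoinRoot.of _) p (P.scaleRoots b) = 0 := by
      refine hinj ?_
      rw [hom_eval₂, map_zero, ← hbp, ← RingHom.comp_apply, scaleRoots_eval₂_mul, hPx, mul_zero]
    let Φ : Kum B N (u * t ^ α) →+* Kum K N a' := Kum.lift ((AdjoinRoot.of _).comp (algebraMap B K)) (AdjoinRoot.root _)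
      (Kum.root_pow N a')
    have hΦ : ∀ r, Φ (AdjoinRoot.of _ r) = AdjoinRoot.of _ (algebraMap B K r) := fun r => Kum.lift_of _ _ _ _
    have hb' : algebraMap B K b ≠ 0 := fun h => hb (IsFractionRing.injective B K (h.trans (map_zero _).symm))
    let y : Kum K N a' := AdjoinRoot.of _ (algebraMap B K b)⁻¹ * Φ p
    have hy : IsIntegral B y := by
      refine ⟨P, hP, ?_⟩
      have h1 := congrArg Φ h0
      have hcomp : Φ.comp (AdjoinRoot.of _) = algebraMap B (Kum K N a') := RingHom.ext hΦ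
      rw [hom_eval₂, map_zero, hcomp] at h1
      have h2 : Φ p = algebraMap B (Kum K N a') b * y := by
        show _ = AdjoinRoot.of _ (algebraMap B K b) * (AdjoinRoot.of _ (algebraMap B K b)⁻¹ * Φ p)
        rw [← mul_assoc, ← map_mul, mul_inv_cancel₀ hb', map_one, one_mul]
      rw [h2, scaleRoots_eval₂_mul] at h1
      refine (IsUnit.mul_right_eq_zero ?_).1 h1
      exact (((isUnit_iff_ne_zero.2 hb').map (AdjoinRoot.of (X ^ N - C a'))).pow _)
    have hpc : y = Kum.mk a' (fun k => (algebraMap B K b)⁻¹ * algebraMap B K (Kum.cf hN p k)) := by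
      show AdjoinRoot.of _ (algebraMap B K b)⁻¹ * Φ p = _
      conv_lhs => rw [← Kum.mk_cf hN p]
      rw [Kum.mk, Kum.mk, map_sum, Finset.mul_sum]
      refine Finset.sum_congr rfl fun k _ => ?_
      rw [map_mul, map_pow, hΦ, Kum.lift_root, map_mul, mul_assoc]
    rw [hpc] at hy
    choose z hz using fun k => coeff_mem_range hN hNu hu ht0 ht hζ _ hy k
    have hz' : ∀ k : Fin N, b * z k = Kum.cf hN p k * t ^ ((k : ℕ) * α / N) := fun k =>
      IsFractionRing.injective B K (by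
        rw [map_mul, hz k, map_mul, map_pow, ← mul_assoc, ← mul_assoc, mul_inv_cancel₀ hb', one_mul])
    refine ⟨z, hcan b _ _ hb ?_⟩
    show _ = ψ (AdjoinRoot.of _ b) * x
    rw [hbp]
    conv_rhs => rw [← Kum.mk_cf hN p, Kum.mk, map_sum]
    simp only [Ξ, Finset.mul_sum]
    refine Finset.sum_congr rfl fun k _ => ?_
    rw [map_mul ψ, map_pow ψ]
    show _ = ι (Kum.cf hN p k) * T ^ (k : ℕ)
    rw [hE, ← mul_assoc, ← mul_assoc, ← map_mul, ← map_mul, hz' k]
  -- the unramified part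
  have hdiv' : ∀ j, e * j * α / N = α' * j ∧ e * j * α % N = 0 := fun j => by
    have h1 : e * j * α = N * (α' * j) := by rw [hge, hα']; ring
    exact ⟨by rw [h1, Nat.mul_div_cancel_left _ hN], by rw [h1, Nat.mul_mod_right]⟩
  let W := E (e * 1)
  have hWj : ∀ j, W ^ j = E (e * j) := fun j => by
    refine hcan (t ^ (α' * j)) _ _ (pow_ne_zero _ ht0) ?_
    have h1 := hE (e * j)
    rw [(hdiv' j).1] at h1
    rw [← h1, pow_mul, map_pow, ← mul_pow, pow_mul T, ← map_pow]
    congr 1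
    have h2 := hE (e * 1)
    rw [(hdiv' 1).1] at h2
    simp only [mul_one] at h2
    simpa only [W, mul_one, T, map_pow] using h2.symm
  have hW : W ^ g = ι u := by
    refine hcan (t ^ α) _ _ (pow_ne_zero _ ht0) ?_
    have h1 := hE (e * g)
    rw [(hdiv' g).1] at h1
    rw [hWj, ← map_mul, mul_comm (t ^ α), ← hT, hge, mul_comm g e, h1, hα', mul_comm α' g]
  let χ : Kum B g u →+* A := Kum.lift ι W hW
  have hα'0 : 0 < α' := Nat.pos_of_mul_pos_left (hα' ▸ hα)
  obtain ⟨c, k, hck⟩ : ∃ c k, c * α' = 1 + k * e := by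
    rcases Nat.lt_or_ge 1 e with h1 | h1
    · obtain ⟨c, -, hc⟩ := Nat.exists_mul_mod_eq_one_of_coprime hcop.symm h1
      refine ⟨c, α' * c / e, ?_⟩
      have h2 := Nat.div_add_mod (α' * c) e
      rw [hc] at h2
      rw [mul_comm c α', mul_comm _ e]; omega
    · obtain rfl : e = 1 := le_antisymm h1 he
      exact ⟨1, α' - 1, by omega⟩
  have hTe : T ^ e = ι t ^ α' * W := by
    have h2 := hE (e * 1)
    rw [(hdiv' 1).1] at h2
    simpa only [W, mul_one, map_pow] using h2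
  obtain ⟨S, hS⟩ : ι t ^ k ∣ T ^ c := by
    refine hdiv _ _ N hN ⟨ι (u ^ c * t ^ g), ?_⟩
    rw [pow_right_comm, hT]
    simp only [map_mul, map_pow, mul_pow, ← pow_mul]
    rw [mul_left_comm, ← pow_add]
    congr 2
    calc α * c = g * (c * α') := by rw [hα']; ring
      _ = g * (1 + k * e) := by rw [hck]
      _ = k * N + g := by rw [hge]; ring
  have hS' : S ^ e = ι t * W ^ c := by
    refine hcan (t ^ (k * e)) _ _ (pow_ne_zero _ ht0) ?_
    have h1 : (T ^ c) ^ e = (T ^ e) ^ c := pow_right_comm _ _ _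
    rw [hS, hTe, mul_pow, mul_pow, ← pow_mul, ← pow_mul, mul_comm α' c, hck, pow_add, pow_one] at h1
    rw [map_pow, h1]; ring
  let w : Kum B g u := AdjoinRoot.root _ ^ c
  have hroot : IsUnit (AdjoinRoot.root (X ^ g - C u) : Kum B g u) :=
    (isUnit_pow_iff hg.ne').1 (by rw [Kum.root_pow]; exact hu.map _)
  have hχw : χ (AdjoinRoot.of _ t * w) = ι t * W ^ c := by
    rw [map_mul, map_pow, Kum.lift_of, Kum.lift_root]
  let θ : Kum (Kum B g u) e (AdjoinRoot.of _ t * w) →+* A := Kum.lift χ S (hS'.trans hχw.symm)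
  have hθS : θ (AdjoinRoot.root _) = S := Kum.lift_root _ _ _
  have hθW : θ (AdjoinRoot.of _ (AdjoinRoot.root _)) = W := (Kum.lift_of _ _ _ _).trans (Kum.lift_root _ _ _)
  have hθι : ∀ b, θ (AdjoinRoot.of _ (AdjoinRoot.of _ b)) = ι b := fun b =>
    (Kum.lift_of _ _ _ _).trans (Kum.lift_of _ _ _ _)
  have hsurj : Function.Surjective θ := by
    intro x
    obtain ⟨z, rfl⟩ := hΞsurj x
    suffices h : ∀ i : Fin N, E i ∈ θ.range from
      RingHom.mem_range.1 (Subring.sum_mem _ fun i _ => Subring.mul_mem _ ⟨_, hθι _⟩ (h i))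
    intro i
    let f := (i : ℕ) * α / N
    obtain ⟨v, hv⟩ : ∃ v, (i : ℕ) * α' = f * e + v := by
      refine Nat.exists_eq_add_of_le (Nat.le_of_mul_le_mul_right (Nat.le_trans (le_of_eq ?_) (le_trans (Nat.div_mul_le_self ((i : ℕ) * α) N) (le_of_eq ?_))) hg)
      · show f * e * g = f * N; rw [hge]; ring
      · rw [hα']; ring
    have e1 : (i : ℕ) + e * ((i : ℕ) * k) = c * v + e * (c * f) := by
      have h2 : c * ((i : ℕ) * α') = (i : ℕ) * (c * α') := by ring
      rw [hck, hv] at h2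
      calc _ = (i : ℕ) * (1 + k * e) := by ring
        _ = c * (f * e + v) := h2.symm
        _ = _ := by ring
    have e2 : f + α' * ((i : ℕ) * k) = k * v + α' * (c * f) := by
      calc _ = f + k * ((i : ℕ) * α') := by ring
        _ = f * (1 + k * e) + k * v := by rw [hv]; ring
        _ = _ := by rw [← hck]; ring
    have h3 : E i * W ^ ((i : ℕ) * k) = S ^ v * W ^ (c * f) := by
      refine hcan (t ^ (f + α' * ((i : ℕ) * k))) _ _ (pow_ne_zero _ ht0) ?_
      calc ι (t ^ (f + α' * ((i : ℕ) * k))) * (E i * W ^ ((i : ℕ) * k))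
          = T ^ (i : ℕ) * (T ^ e) ^ ((i : ℕ) * k) := by
            rw [hE, hTe]; simp only [map_mul, map_pow, mul_pow, ← pow_mul, pow_add, f]; ring
        _ = (T ^ c) ^ v * (T ^ e) ^ (c * f) := by rw [← pow_mul, ← pow_mul, ← pow_mul, ← pow_add, e1, pow_add]
        _ = _ := by rw [hS, hTe, e2]; simp only [map_mul, map_pow, mul_pow, ← pow_mul, pow_add]; ring
    obtain ⟨r, hr⟩ := hroot.exists_right_inv
    have hWr : W * θ (AdjoinRoot.of _ r) = 1 := by rw [← hθW, ← map_mul, ← map_mul, hr, map_one, map_one]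
    refine ⟨AdjoinRoot.root _ ^ v * AdjoinRoot.of _ (AdjoinRoot.root _ ^ (c * f) * r ^ ((i : ℕ) * k)), ?_⟩
    simp only [map_mul, map_pow, hθS, hθW]
    rw [← mul_assoc, ← h3, mul_assoc, ← mul_pow, hWr, one_pow, mul_one]
  have hinj' : Function.Injective θ := by
    letI := ι.toAlgebra
    let Ξl : (Fin N → B) →ₗ[B] A := Fintype.linearCombination B (fun i : Fin N => E i)
    have hΞl : ∀ z, Ξl z = Ξ z := fun z => by
      simp only [Ξl, Ξ, Fintype.linearCombination_apply, Algebra.smul_def]; rfl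
    let Ξe : (Fin N → B) ≃ₗ[B] A := LinearEquiv.ofBijective Ξl
      ⟨fun z z' h => hΞinj z z' (by rwa [hΞl, hΞl] at h), fun x => (hΞsurj x).imp fun z hz => (hΞl z).trans hz⟩
    let Λ : (Fin e × Fin g → B) →ₗ[B] A :=
      Fintype.linearCombination B (fun p : Fin e × Fin g => W ^ (p.2 : ℕ) * S ^ (p.1 : ℕ))
    have hΛ : ∀ y, θ y = Λ (fun p => Kum.cf hg (Kum.cf he y p.1) p.2) := fun y => by
      conv_lhs => rw [← Kum.mk_cf he y, Kum.mk, map_sum]
      simp only [Λ, Fintype.linearCombination_apply, Algebra.smul_def]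
      rw [Fintype.sum_prod_type]
      refine Finset.sum_congr rfl fun r _ => ?_
      conv_lhs => rw [← Kum.mk_cf hg (Kum.cf he y r), Kum.mk, map_sum, Finset.sum_mul, map_sum]
      refine Finset.sum_congr rfl fun m _ => ?_
      simp only [map_mul, map_pow, hθι, hθW, hθS, mul_assoc]
      rfl
    let σ : Fin N ≃ Fin e × Fin g := (finCongr (hge.trans (mul_comm g e))).trans finProdFinEquiv.symm
    let M : (Fin N → B) →ₗ[B] (Fin N → B) :=
      Ξe.symm.toLinearMap ∘ₗ Λ ∘ₗ (LinearEquiv.funCongrLeft B B σ.symm).toLinearMap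
    have hM : Function.Surjective M := fun z => by
      obtain ⟨y, hy⟩ := hsurj (Ξe z)
      refine ⟨(LinearEquiv.funCongrLeft B B σ.symm).symm fun p => Kum.cf hg (Kum.cf he y p.1) p.2, ?_⟩
      simp only [M, LinearMap.comp_apply, LinearEquiv.coe_toLinearMap, LinearEquiv.apply_symm_apply, ← hΛ, hy,
        LinearEquiv.symm_apply_apply]
    have hMi := OrzechProperty.injective_of_surjective_endomorphism M hM
    intro y y' h
    rw [hΛ, hΛ] at h
    have h2 : Function.Injective Λ := fun q q' hq =>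
      (LinearEquiv.funCongrLeft B B σ.symm).symm.injective (hMi (by
        simp only [M, LinearMap.comp_apply, LinearEquiv.coe_toLinearMap, LinearEquiv.apply_symm_apply, hq]))
    exact Kum.ext he fun r => Kum.ext hg fun m => congrFun (h2 h) (r, m)
  exact ⟨e, w, θ, he, ⟨g, hge.trans (mul_comm g e)⟩, hroot.pow c, ⟨hinj', hsurj⟩, hθι⟩

end Groth.Agent.CycCovRam
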