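import Groth.Agent.CycCovRam.Main
import Groth.Agent.CycCovRam.SmoothAlg
import Groth.Agent.CycCovRam.Struct
import Mathlib.AlgebraicGeometry.Morphisms.Smooth

/-! # Smoothness of cyclic covers away from the crossings -/

set_option autoImplicit false
set_option linter.style.haveILetI false
set_option backward.isDefEq.respectTransparency false

universe u

open CategoryTheory AlgebraicGeometry Opposite TopologicalSpace

noncomputable section

namespace Groth.Agent.CycCovRam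

open Groth.Agent.QCoh Groth.Agent.Props.GenLocus Groth.Agent.Props.GenTensor Groth.Agent.CycPic Groth.Agent.CycCovEt

variable {X Y : Scheme.{u}} [IsIntegral X] {L : X.Modules} {N : ℕ}
  {s : Coh.structureModule X ⟶ CohB1.tensorPow L N} {π : Y ⟶ X}

theorem smooth_ringHom {K : Type u} [CommRing K] {B A : Type u} [CommRing B] [CommRing A] {n : ℕ}
    (φ : MvPolynomial (Fin n) K →+* B) (hφ : φ.Etale) (j : Fin n) {g e : ℕ} (hg : 0 < g) (he : 0 < e)
    (hgu : IsUnit (g : B)) (heu : IsUnit (e : B)) {u : B} (hu : IsUnit u) {w : Kum B g u} (hw : IsUnit w)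
    (θ : Kum (Kum B g u) e (AdjoinRoot.of _ (φ (MvPolynomial.X j)) * w) →+* A) (hθ : Function.Bijective θ)
    (ρ : K →+* A) (hρ : ∀ c, θ (AdjoinRoot.of _ (AdjoinRoot.of _ (φ (MvPolynomial.C c)))) = ρ c) : ρ.Smooth := by
  letI := φ.toAlgebra
  letI : Algebra K B := (φ.comp MvPolynomial.C).toAlgebra
  haveI : IsScalarTower K (MvPolynomial (Fin n) K) B := IsScalarTower.of_algebraMap_eq fun _ => rfl
  haveI : Algebra.Etale (MvPolynomial (Fin n) K) B := RingHom.etale_algebraMap.1 hφ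
  haveI := Kum.etale hg hu hgu
  haveI : Algebra.Etale (MvPolynomial (Fin n) K) (Kum B g u) := Algebra.Etale.comp (MvPolynomial (Fin n) K) B (Kum B g u)
  let C := Kum B g u
  let A' := Kum C e (algebraMap (MvPolynomial (Fin n) K) C (MvPolynomial.X j) * w)
  haveI : Algebra.FormallySmooth K A' := formallySmooth_kum j he (by simpa using heu.map (algebraMap B C)) hw
  haveI : Algebra.FinitePresentation C A' := by
    haveI : Module.Finite C A' := Kum.finite he _
    haveI : Module.Free C A' := Kum.free he _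
    haveI : Module.FinitePresentation C A' := Module.finitePresentation_of_projective _ _
    exact Algebra.FinitePresentation.of_finitePresentation C A'
  haveI : Algebra.FinitePresentation K C := Algebra.FinitePresentation.trans K (MvPolynomial (Fin n) K) C
  haveI : Algebra.FinitePresentation K A' := Algebra.FinitePresentation.trans K C A'
  haveI : Algebra.Smooth K A' := ⟨inferInstance, inferInstance⟩
  letI := ρ.toAlgebra
  let Φ : A' ≃ₐ[K] A := AlgEquiv.ofRingEquiv (f := RingEquiv.ofBijective θ hθ) hρ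
  exact RingHom.smooth_algebraMap.2 (Algebra.Smooth.of_equiv Φ)

theorem exists_local_smooth {k : Type u} [Field k] (f : X ⟶ Spec (CommRingCat.of k)) [Smooth f]
    (hL : PicF.IsInvertible L) (hN : 0 < N) (hNk : (N : k) ≠ 0) {ζ : k} (hζ : IsPrimitiveRoot ζ N)
    (hnX : Pi1.IsNormalScheme X) {r : ℕ} (D : Fin r → X.IdealSheafData) (α : Fin r → ℕ) (hD : LogNCD.IsNCD D f)
    (hs : CycCov.IsZeroDiv (CohB1.tensorPow L N) s (CycCov.divIdeal D α))
    {R : CycCov.Root L N s π} (hR : CycCov.IsCover R) (x : X)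
    (hx : ∀ j j' : Fin r, 0 < α j → 0 < α j' → x ∈ (D j).support → x ∈ (D j').support → j = j') :
    ∃ U : X.affineOpens, x ∈ U.1 ∧ ((f.appLE ⊤ U.1 le_top) ≫ π.app U.1).hom.Smooth := by
  obtain ⟨U₁, e₁, hxU₁, he₁⟩ := exists_isGen hL x
  obtain ⟨U, hle, n, φ, emb, hxU, hUU₁, hφC, hφet, -, hthr, hoff⟩ :=
    LiftLib.NCDChart.exists_chart f D hD x U₁ hxU₁ ⟨⊤, isAffineOpen_top _⟩ trivial
  refine ⟨U, hxU, ?_⟩
  haveI : Nonempty U.1 := ⟨⟨x, hxU⟩⟩
  haveI : IsIntegrallyClosed Γ(X, U.1) := isIntegrallyClosed_of_normal hnX U.1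
  let κ : k →+* Γ(X, U.1) := ((Scheme.ΓSpecIso (CommRingCat.of k)).inv ≫ f.appLE ⊤ U.1 le_top).hom
  have hNu : IsUnit (N : Γ(X, U.1)) := by simpa using (isUnit_iff_ne_zero.2 hNk).map κ
  by_cases hex : ∀ j, 0 < α j → x ∉ (D j).support
  · have hI : (CycCov.divIdeal D α).ideal U = ⊤ := by
      rw [CycCov.divIdeal, prod_ideal, ← Ideal.one_eq_top]
      refine Finset.prod_eq_one fun i _ => ?_
      rw [Scheme.IdealSheafData.ideal_pow, Pi.pow_apply]
      rcases Nat.eq_zero_or_pos (α i) with h0 | h0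
      · rw [h0, pow_zero]
      · rw [hoff i (hex i h0), Ideal.top_pow, Ideal.one_eq_top]
    let e : Γ(L, U.1) := res L hUU₁ e₁
    have he : Props.GenLocus.IsGen L U.1 e := he₁.restrict hUU₁
    have hg : CycCov.IsGen _ U.1 (pw L e N) := isGen_prelude (isGen_pw he N)
    obtain ⟨c, hc⟩ := hg.2 (SecTwist.val s U.1)
    replace hc : SecTwist.val s U.1 = c • pw L e N := hc.symm
    have hcu := isUnit_coord s hs U hI hg hc
    rw [← lpow_eq_pw] at hc
    have h1 := etale_app hN hR hnX U hNu (hζ.map_of_injective κ.injective) e he c hcu hc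
    have h2 : (f.appLE ⊤ U.1 le_top).hom.Smooth :=
      HasRingHomProperty.appLE (P := @Smooth) f inferInstance ⟨⊤, isAffineOpen_top _⟩ U le_top
    rw [CommRingCat.hom_comp]
    refine RingHom.Smooth.stableUnderComposition _ _ h2 ?_
    letI := (π.app U.1).hom.toAlgebra
    haveI : Algebra.Etale Γ(X, U.1) Γ(Y, π ⁻¹ᵁ U.1) := RingHom.etale_algebraMap.1 h1
    exact RingHom.smooth_algebraMap.2 inferInstance
  push Not at hex
  obtain ⟨j, hjα, hj⟩ := hex
  haveI : IsReduced Γ(Spec (CommRingCat.of k), ⊤) :=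
    isReduced_of_injective (Scheme.ΓSpecIso (CommRingCat.of k)).commRingCatIsoToRingEquiv.toRingHom
      (RingEquiv.injective _)
  haveI : IsDomain Γ(Spec (CommRingCat.of k), ⊤) :=
    ((Scheme.ΓSpecIso (CommRingCat.of k)).commRingCatIsoToRingEquiv).toMulEquiv.isDomain_iff.2 inferInstance
  letI := φ.toAlgebra
  haveI : Algebra.Etale (MvPolynomial (Fin n) Γ(Spec (CommRingCat.of k), ⊤)) Γ(X, U.1) :=
    RingHom.etale_algebraMap.1 hφet
  let t : Γ(X, U.1) := φ (MvPolynomial.X (emb ⟨j, hj⟩))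
  have hDj : (D j).ideal U = Ideal.span {t} := hthr ⟨j, hj⟩
  have hP : (Ideal.span {(MvPolynomial.X (emb ⟨j, hj⟩) : MvPolynomial (Fin n) Γ(Spec (CommRingCat.of k), ⊤))}).IsPrime :=
    (Ideal.span_singleton_prime (MvPolynomial.X_ne_zero _)).2 MvPolynomial.X_prime
  have ht : (Ideal.span {t}).IsRadical := by
    haveI : IsReduced (MvPolynomial (Fin n) Γ(Spec (CommRingCat.of k), ⊤) ⧸
        Ideal.span {(MvPolynomial.X (emb ⟨j, hj⟩) : MvPolynomial (Fin n) Γ(Spec (CommRingCat.of k), ⊤))}) :=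
      (Ideal.isRadical_iff_quotient_reduced _).1 hP.isRadical
    have h1 := EtRamLib.Kummer.Basis.isReduced_quotient_map (R := Γ(X, U.1))
      (Ideal.span {(MvPolynomial.X (emb ⟨j, hj⟩) : MvPolynomial (Fin n) Γ(Spec (CommRingCat.of k), ⊤))})
    rw [Ideal.map_span, Set.image_singleton] at h1
    exact (Ideal.isRadical_iff_quotient_reduced _).2 h1
  have ht0 : t ≠ 0 := fun h0 => by
    have h1 := EtRamLib.Kummer.Basis.mem_map_of_mul_mem (R := Γ(X, U.1))
      (⊥ : Ideal (MvPolynomial (Fin n) Γ(Spec (CommRingCat.of k), ⊤))) (MvPolynomial.X (emb ⟨j, hj⟩))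
      (fun z hz => by simpa [MvPolynomial.X_ne_zero] using hz) 1
      (by rw [mul_one, Ideal.map_bot, Ideal.mem_bot]; exact h0)
    rw [Ideal.map_bot, Ideal.mem_bot] at h1
    exact one_ne_zero h1
  -- the section in a frame
  have hI : (CycCov.divIdeal D α).ideal U = Ideal.span {t ^ α j} := by
    rw [CycCov.divIdeal, prod_ideal, Finset.prod_eq_single j]
    · rw [Scheme.IdealSheafData.ideal_pow, Pi.pow_apply, hDj, Ideal.span_singleton_pow]
    · intro i _ hi
      rw [Scheme.IdealSheafData.ideal_pow, Pi.pow_apply]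
      rcases Nat.eq_zero_or_pos (α i) with h0 | h0
      · rw [h0, pow_zero]
      · rw [hoff i (fun h => hi (hx i j h0 hjα h hj)), Ideal.top_pow, Ideal.one_eq_top]
    · simp
  let e : Γ(L, U.1) := res L hUU₁ e₁
  have he : Props.GenLocus.IsGen L U.1 e := he₁.restrict hUU₁
  have hg : CycCov.IsGen _ U.1 (pw L e N) := isGen_prelude (isGen_pw he N)
  obtain ⟨c, hc⟩ := hg.2 (SecTwist.val s U.1)
  replace hc : SecTwist.val s U.1 = c • pw L e N := hc.symm
  have hz := hs U
  rw [hI, hc] at hz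
  have hc1 : t ^ α j ∣ c := by
    have h1 : (c • pw L e N : (CohB1.tensorPow L N).val.obj (op U.1)) ∈ Submodule.span Γ(X, U.1) {c • pw L e N} :=
      Submodule.mem_span_singleton_self _
    rw [hz] at h1
    refine Submodule.smul_induction_on (p := fun m => ∀ d : Γ(X, U.1), m = d • pw L e N → t ^ α j ∣ d) h1 ?_ ?_ c rfl
    · intro a ha m _ d hd
      obtain ⟨d', hd'⟩ := hg.2 m
      rw [← hd', smul_smul] at hd
      rw [← hg.1 hd]
      exact (Ideal.mem_span_singleton.1 ha).mul_right _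
    · intro m₁ m₂ h₁ h₂ d hd
      obtain ⟨d₁, hd₁⟩ := hg.2 m₁
      obtain ⟨d₂, hd₂⟩ := hg.2 m₂
      rw [← hd₁, ← hd₂, ← add_smul] at hd
      rw [← hg.1 hd]
      exact dvd_add (h₁ d₁ hd₁.symm) (h₂ d₂ hd₂.symm)
  obtain ⟨v, rfl⟩ := hc1
  have hv : IsUnit v := by
    have h1 : (t ^ α j • pw L e N : (CohB1.tensorPow L N).val.obj (op U.1)) ∈
        Submodule.span Γ(X, U.1) {(t ^ α j * v) • pw L e N} := by
      rw [hz]; exact Submodule.smul_mem_smul (Ideal.mem_span_singleton_self _) trivial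
    obtain ⟨a, ha⟩ := Submodule.mem_span_singleton.1 h1
    rw [smul_smul] at ha
    have h2 := hg.1 ha
    refine IsUnit.of_mul_eq_one_right a (mul_left_cancel₀ (pow_ne_zero (α j) ht0) ?_)
    rw [mul_one, mul_left_comm]; exact h2
  rw [mul_comm] at hc
  obtain ⟨ψ, hinj, hof, htf, hfrac⟩ := chart_props hN hR U e he (v * t ^ α j) (by rw [lpow_eq_pw]; exact hc)
  haveI := hR.1
  obtain ⟨e', w, θ, he', he'N, hw, hθ, hθι⟩ := exists_structure hN hjα hNu hv ht0 ht
    (hζ.map_of_injective κ.injective) ψ hinj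
    (fun c => by
      rw [show ψ.comp (AdjoinRoot.of _) = (π.app U.1).hom from RingHom.ext hof]
      exact (π.finite_app U.1 U.2).to_isIntegral c)
    htf hfrac (fun b y n => dvd_of_pow_dvd (U.2.preimage π) hR.2.1 b y n)
  refine smooth_ringHom φ hφet (emb ⟨j, hj⟩) (Nat.gcd_pos_of_pos_left _ hN) he'
    (isUnit_of_dvd_unit (Nat.cast_dvd_cast (Nat.gcd_dvd_left N (α j))) hNu)
    (isUnit_of_dvd_unit (Nat.cast_dvd_cast he'N) hNu) hv hw θ hθ _ fun c => ?_
  rw [hθι, hof, CommRingCat.hom_comp, RingHom.comp_apply]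
  exact congrArg _ (DFunLike.congr_fun hφC c)

theorem smooth_restrict {k : Type u} [Field k] (f : X ⟶ Spec (CommRingCat.of k)) [Smooth f]
    (hL : PicF.IsInvertible L) (hN : 0 < N) (hNk : (N : k) ≠ 0) {ζ : k} (hζ : IsPrimitiveRoot ζ N)
    (hnX : Pi1.IsNormalScheme X) {r : ℕ} (D : Fin r → X.IdealSheafData) (α : Fin r → ℕ) (hD : LogNCD.IsNCD D f)
    (hs : CycCov.IsZeroDiv (CohB1.tensorPow L N) s (CycCov.divIdeal D α))
    {R : CycCov.Root L N s π} (hR : CycCov.IsCover R) (W : X.Opens)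
    (hW : ∀ x ∈ W, ∀ j j' : Fin r, 0 < α j → 0 < α j' → x ∈ (D j).support → x ∈ (D j').support → j = j') :
    Smooth ((π ⁻¹ᵁ W).ι ≫ π ≫ f) := by
  haveI := hR.1
  choose U hxU hU using fun x : {x // x ∈ W} => exists_local_smooth f hL hN hNk hζ hnX D α hD hs hR x.1 (hW x.1 x.2)
  refine IsZariskiLocalAtSource.of_openCover (P := @Smooth)
    (Scheme.openCoverOfIsOpenCover (π ⁻¹ᵁ W : Scheme.{u})
      (fun x => (π ⁻¹ᵁ W).ι ⁻¹ᵁ (π ⁻¹ᵁ (U x).1)) ?_) fun x => ?_
  · refine Opens.ext (Set.eq_univ_of_forall fun y => ?_)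
    have hy : π ((π ⁻¹ᵁ W).ι y) ∈ W := y.2
    exact Opens.mem_iSup.2 ⟨⟨_, hy⟩, hxU ⟨_, hy⟩⟩
  · let V := π ⁻¹ᵁ (U x).1
    have hV : IsAffineOpen V := (U x).2.preimage π
    have h1 : Smooth (hV.fromSpec ≫ π ≫ f) := by
      rw [← (isAffineOpen_top _).SpecMap_appLE_fromSpec (π ≫ f) hV le_top]
      haveI : Smooth (Spec.map ((π ≫ f).appLE ⊤ V le_top)) := by
        rw [HasRingHomProperty.Spec_iff (P := @Smooth),
          ← Scheme.Hom.appLE_comp_appLE π f ⊤ (U x).1 V le_top le_rfl, ← π.app_eq_appLE]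
        exact hU x
      infer_instance
    have h2 : Smooth (V.ι ≫ π ≫ f) := by
      rw [← hV.isoSpec_hom_fromSpec, Category.assoc]
      infer_instance
    rw [Scheme.openCoverOfIsOpenCover_f]
    have e : ((π ⁻¹ᵁ W).ι ⁻¹ᵁ V).ι ≫ (π ⁻¹ᵁ W).ι = ((π ⁻¹ᵁ W).ι ∣_ V) ≫ V.ι := by simp
    rw [← Category.assoc, e, Category.assoc]
    infer_instance

end Groth.Agent.CycCovRam
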